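import Cfsg.Agent.Cit.CoresG
import Cfsg.Agent.Cit.CovES
import Cfsg.Agent.Cit.CoreTools

/-!
# Cores for `|E| = 4`: preliminaries

* `mem_normalizer_of_syl`, `mem_cov_of_syl` : an involution centralising a Sylow 2-subgroup of a member `K` is
  trivial on `K / O(K)`;
* `comm_XX` : (CT) for `C(b) / O(C(b))`, `b` an arbitrary involution centralising a Sylow 2-subgroup of `K`;
* `CX b x` : the elements `c` of `C(b)` with `[c, x] ∈ O(C(b))`;
* `AA E f` : the subgroup `E ∪ E f`.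
-/

set_option autoImplicit false
set_option linter.style.haveILetI false
set_option linter.unusedSectionVars false

namespace Cfsg.Agent.Cit.FC

open Subgroup Cfsg Cfsg.Agent.Cit SubCent UseT TorFunctor CoresG
open scoped commutatorElement

universe u

section

variable {G : Type u} [Group G]

/-! ### The subgroup `CX b x` -/

/-- the elements `c` of `C(b)` with `[c, x] ∈ O(C(b))` -/
def CX (b x : G) : Subgroup G where
  carrier := {c | c * b = b * c ∧ c * x * c⁻¹ * x⁻¹ ∈ XX b}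
  one_mem' := ⟨by simp, by simp⟩
  mul_mem' := by
    rintro c d ⟨hc, hcx⟩ ⟨hd, hdx⟩
    refine ⟨by rw [mul_assoc, hd, ← mul_assoc, hc, mul_assoc], ?_⟩
    have h1 := CT.conj_mem_XX hc hdx
    have h2 : c * d * x * (c * d)⁻¹ * x⁻¹ = (c * (d * x * d⁻¹ * x⁻¹) * c⁻¹) * (c * x * c⁻¹ * x⁻¹) := by group
    rw [h2]
    exact mul_mem h1 hcx
  inv_mem' := by
    rintro c ⟨hc, hcx⟩
    have hc' : c⁻¹ * b = b * c⁻¹ := by
      rw [inv_mul_eq_iff_eq_mul, ← mul_assoc, hc, mul_inv_cancel_right]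
    refine ⟨hc', ?_⟩
    have h1 := CT.conj_mem_XX hc' (inv_mem hcx)
    have h2 : c⁻¹ * x * c⁻¹⁻¹ * x⁻¹ = c⁻¹ * (c * x * c⁻¹ * x⁻¹)⁻¹ * c⁻¹⁻¹ := by group
    rw [h2]
    exact h1

theorem mem_CX {b x c : G} : c ∈ CX b x ↔ c * b = b * c ∧ c * x * c⁻¹ * x⁻¹ ∈ XX b := Iff.rfl

theorem CX_of_comm {b x c : G} (h1 : c * b = b * c) (h2 : c * x = x * c) : c ∈ CX b x := by
  refine ⟨h1, ?_⟩
  rw [h2, mul_inv_cancel_right, mul_inv_cancel]
  exact one_mem _

theorem self_mem_CX {b x : G} (hx : x * b = b * x) : b ∈ CX b x := CX_of_comm rfl hx.symm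

/-- everything in `C(b)` lies in `CX b x` if `x ∈ O(C(b))` -/
theorem CX_of_mem {b x c : G} (h1 : c * b = b * c) (hx : x ∈ XX b) : c ∈ CX b x :=
  ⟨h1, mul_mem (CT.conj_mem_XX h1 hx) (inv_mem hx)⟩

/-! ### The subgroup `E ∪ E f` -/

/-- the subgroup `E ∪ E f`, `f` an involution centralising `E` -/
def AA (E : Subgroup G) (f : G) (hf : f * f = 1) (hfE : ∀ e ∈ E, e * f = f * e) : Subgroup G where
  carrier := {x | x ∈ E ∨ x * f ∈ E}
  one_mem' := Or.inl (one_mem _)
  mul_mem' := by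
    have key : ∀ x, x * f ∈ E → x * f = f * x := by
      intro x hx
      have h1 := hfE _ hx
      have h2 : x * f * f = x := by rw [mul_assoc, hf, mul_one]
      rw [h2] at h1
      calc x * f = (f * (x * f)) * f := by rw [← h1]
        _ = f * (x * f * f) := by group
        _ = f * x := by rw [h2]
    rintro x y (hx | hx) (hy | hy)
    · exact Or.inl (mul_mem hx hy)
    · right
      rw [mul_assoc]
      exact mul_mem hx hy
    · right
      rw [mul_assoc, hfE y hy, ← mul_assoc]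
      exact mul_mem hx hy
    · left
      have h1 := mul_mem hx hy
      have h2 : x * f * (y * f) = x * y := by
        rw [key y hy, mul_assoc, ← mul_assoc f, hf, one_mul]
      rwa [h2] at h1
  inv_mem' := by
    rintro x (hx | hx)
    · exact Or.inl (inv_mem hx)
    · right
      have hfi : f⁻¹ = f := inv_eq_of_mul_eq_one_right hf
      have h1 := inv_mem hx
      rw [mul_inv_rev, hfi] at h1
      have h2 := hfE _ h1
      have h3 : x⁻¹ * f = f * x⁻¹ := by
        calc x⁻¹ * f = (f * f) * x⁻¹ * f := by rw [hf, one_mul]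
          _ = f * (f * x⁻¹ * f) := by group
          _ = f * (f * (f * x⁻¹)) := by rw [h2]
          _ = (f * f) * (f * x⁻¹) := by group
          _ = f * x⁻¹ := by rw [hf, one_mul]
      rw [h3]
      exact h1

section AA

variable {E : Subgroup G} {f : G} {hf : f * f = 1} {hfE : ∀ e ∈ E, e * f = f * e}

theorem mem_AA {x : G} : x ∈ AA E f hf hfE ↔ x ∈ E ∨ x * f ∈ E := Iff.rfl

theorem le_AA : E ≤ AA E f hf hfE := fun _ h => Or.inl h

theorem f_mem_AA : f ∈ AA E f hf hfE := Or.inr (by rw [hf]; exact one_mem _)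

theorem AA_le {H : Subgroup G} (h1 : E ≤ H) (h2 : f ∈ H) : AA E f hf hfE ≤ H := by
  rintro x (hx | hx)
  · exact h1 hx
  · have h3 := mul_mem (h1 hx) h2
    rwa [mul_assoc, hf, mul_one] at h3

/-- an element outside `E` and `E` generate -/
theorem AA_le' {H : Subgroup G} (h1 : E ≤ H) {a : G} (ha : a ∈ AA E f hf hfE) (haE : a ∉ E) (haH : a ∈ H) :
    AA E f hf hfE ≤ H := by
  refine AA_le h1 ?_
  have h2 := h1 (ha.resolve_left haE)
  have h3 := mul_mem (inv_mem haH) h2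
  rwa [inv_mul_cancel_left] at h3

theorem AA_comm (hE : ∀ a ∈ E, ∀ b ∈ E, a * b = b * a) :
    ∀ a ∈ AA E f hf hfE, ∀ b ∈ AA E f hf hfE, a * b = b * a := by
  have h1 : ∀ a ∈ E, AA E f hf hfE ≤ centralizer {a} := fun a ha =>
    AA_le (fun b hb => mem_centralizer_singleton_iff.2 (hE b hb a ha))
      (mem_centralizer_singleton_iff.2 (hfE a ha).symm)
  have h2 : AA E f hf hfE ≤ centralizer {f} :=
    AA_le (fun b hb => mem_centralizer_singleton_iff.2 (hfE b hb)) (mem_centralizer_singleton_iff.2 rfl)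
  intro a ha b hb
  have h3 : AA E f hf hfE ≤ centralizer {b} := by
    refine AA_le (fun c hc => ?_) ?_
    · exact mem_centralizer_singleton_iff.2 (mem_centralizer_singleton_iff.1 (h1 c hc hb)).symm
    · exact mem_centralizer_singleton_iff.2 (mem_centralizer_singleton_iff.1 (h2 hb)).symm
  exact mem_centralizer_singleton_iff.1 (h3 ha)

theorem AA_sq (hE2 : ∀ a ∈ E, a * a = 1) : ∀ a ∈ AA E f hf hfE, a * a = 1 := by
  rintro a (ha | ha)
  · exact hE2 a ha
  · have h1 := hE2 _ ha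
    have h2 := hfE _ ha
    have h3 : a * f * f = a := by rw [mul_assoc, hf, mul_one]
    calc a * a = (a * f) * (f * a) := by
          rw [mul_assoc a f, ← mul_assoc f f, hf, one_mul]
      _ = (a * f) * (f * ((a * f) * f)) := by rw [h3]
      _ = (a * f) * (f * (f * (a * f))) := by rw [h2]
      _ = (a * f) * ((f * f) * (a * f)) := by group
      _ = 1 := by rw [hf, one_mul, h1]

theorem card_AA [Finite G] (hfE' : f ∉ E) : 2 * Nat.card E ≤ Nat.card (AA E f hf hfE) := by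
  obtain ⟨k, hk⟩ := card_dvd_of_le (le_AA (hf := hf) (hfE := hfE))
  have h1 : k ≠ 0 := by
    rintro rfl
    have : 0 < Nat.card (AA E f hf hfE) := Nat.card_pos
    omega
  have h2 : k ≠ 1 := by
    rintro rfl
    apply hfE'
    rw [mul_one] at hk
    rw [eq_of_le_of_card_ge (le_AA (hf := hf) (hfE := hfE)) hk.le]
    exact f_mem_AA
  have h3 : 2 ≤ k := by omega
  rw [hk, mul_comm 2]
  exact Nat.mul_le_mul_left _ h3

end AA

/-! ### Involutions centralising a Sylow 2-subgroup of a member -/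

variable [Finite G] {Om : Set (Subgroup G)}

theorem zz_mem_syl (h : Hyp Om) {K Q : Subgroup G} (hK : K ∈ Om) (hQ : Syl Q K) : zz K ∈ Q := by
  obtain ⟨c, v, n, hq⟩ := h.exists_gq hK hQ
  exact hq.z_mem

/-- an element centralising a Sylow 2-subgroup of the member `K` normalises `K` -/
theorem mem_normalizer_of_syl (h : Hyp Om) {K Q : Subgroup G} (hK : K ∈ Om) (hQ : Syl Q K) {b : G}
    (hb : ∀ q ∈ Q, q * b = b * q) : b ∈ normalizer (K : Set G) := by
  have hfix : ∀ q ∈ Q, b * q * b⁻¹ = q := fun q hq => by rw [← hb q hq, mul_inv_cancel_right]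
  rw [mem_normalizer_iff_cj]
  have hz : zz (cj b K) = zz K := by
    rw [h.zz_cj hK]
    exact hfix _ (zz_mem_syl h hK hQ)
  rcases h.h2 _ (h.conj K hK b) K hK hz with h1 | h1
  · exact h1
  · exfalso
    obtain ⟨c, v, n, hq⟩ := h.exists_gq hK hQ
    have h4 : v ∈ cj b K := by
      rw [← hfix v hq.v_mem]
      exact conj_mem_cj (hQ.1 hq.v_mem)
    have h5 := (h1 (commutator_mem_commutator h4 (hQ.1 hq.c_mem))).2
    rw [commutatorElement_def] at h5
    have h6 : v * c * v⁻¹ * c⁻¹ ∈ Q := mul_mem (mul_mem (mul_mem hq.v_mem hq.c_mem) (inv_mem hq.v_mem))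
      (inv_mem hq.c_mem)
    obtain ⟨k, hk⟩ := hQ.2.1 ⟨_, h6⟩
    have h7 := eq_one_of_odd (odd_OO K) h5 (congrArg Subtype.val hk)
    apply hq.not_comm
    rw [mul_inv_eq_one, mul_inv_eq_iff_eq_mul] at h7
    exact h7

theorem mem_ck_of_syl (h : Hyp Om) {K Q : Subgroup G} (hK : K ∈ Om) (hQ : Syl Q K) {b : G} (hb2 : b * b = 1)
    (hb : ∀ q ∈ Q, q * b = b * q) : b ∈ CovES.ck K := by
  have h1 : zpowers b ≤ CovES.ck K := by
    rw [CovES.le_ck_iff]
    refine Trivial.commutator_le h hK hQ (CovES.isPGroup_zpowers_of_sq hb2)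
      (zpowers_le.2 (mem_normalizer_of_syl h hK hQ hb)) ?_
    rintro _ ⟨i, rfl⟩ x hx
    exact ((show Commute x b from hb x hx).zpow_right i).eq.symm
  exact h1 (mem_zpowers b)

theorem mem_cov_of_syl (h : Hyp Om) {K Q : Subgroup G} (hK : K ∈ Om) (hQ : Syl Q K) {b : G} (hb2 : b * b = 1)
    (hb : ∀ q ∈ Q, q * b = b * q) : K ∈ cov Om (centralizer {b}) :=
  (CovES.mem_cov_iff_mem_ck h (CovES.isPGroup_zpowers_of_sq hb2)).2 ⟨hK, mem_ck_of_syl h hK hQ hb2 hb⟩

theorem qm_sq {H : Subgroup G} {b : H} (hb : (b : G) * b = 1) : qm H b * qm H b = 1 := by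
  rw [← map_mul, ← map_one (qm H)]
  congr 1
  exact Subtype.ext hb

/-- **(CT)** in `C(b) / O(C(b))` -/
theorem comm_XX (hct : CTStmt.{u}) (h : Hyp Om) (ty : ∀ K ∈ Om, IsType K) {K Q : Subgroup G} (hK : K ∈ Om)
    (hQ : Syl Q K) {a b : G} (ha : a * a = 1) (hb : b * b = 1) (hab : a * b = b * a)
    (hQa : ∀ q ∈ Q, q * a = a * q) (hQb : ∀ q ∈ Q, q * b = b * q)
    (hp : HasPieces (fam Om (centralizer {b}))) {x : G} (hx : x ∈ XX a) (hxb : x * b = b * x) :
    Q ≤ CX b x := by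
  intro q hq
  refine ⟨hQb q hq, ?_⟩
  set H := centralizer ({b} : Set G) with hH
  have hKc := mem_cov_of_syl h hK hQ hb hQb
  have hQH : Q ≤ H := fun q hq => mem_centralizer_singleton_iff.2 (hQb q hq)
  have haH : a ∈ H := mem_centralizer_singleton_iff.2 hab
  have hxH : x ∈ H := mem_centralizer_singleton_iff.2 hxb
  have h1 := hct (HQ H) (fam Om H) (hyp_fam h ty H) (ty_fam ty H) hp (core_HQ H) (tr H K) (tr_mem hKc) _
    (syl_tr ty hKc hQ hQH) (qm H ⟨a, haH⟩) (qm_sq ha) (by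
      rintro _ ⟨y, hy, rfl⟩
      rw [← map_mul, ← map_mul]
      congr 1
      exact Subtype.ext (hQa y hy))
    (qm H ⟨x, hxH⟩) (qm_mem_XX (Subtype.ext ha) hx) (qm H ⟨q, hQH hq⟩) ⟨⟨q, hQH hq⟩, hq, rfl⟩
  have h2 : qm H (⟨q, hQH hq⟩ * ⟨x, hxH⟩ * ⟨q, hQH hq⟩⁻¹ * ⟨x, hxH⟩⁻¹) = 1 := by
    rw [map_mul, map_mul, map_mul, h1, map_inv, map_inv]
    group
  exact (mem_ker_iff H).1 h2

/-- `CX b x` is the preimage of a centraliser -/
theorem mem_CX_of_qm {b x c : G} (hx : x * b = b * x) (hc : c * b = b * c)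
    (h : qm (centralizer {b}) ⟨c, mem_centralizer_singleton_iff.2 hc⟩ *
      qm (centralizer {b}) ⟨x, mem_centralizer_singleton_iff.2 hx⟩ =
      qm (centralizer {b}) ⟨x, mem_centralizer_singleton_iff.2 hx⟩ *
      qm (centralizer {b}) ⟨c, mem_centralizer_singleton_iff.2 hc⟩) : c ∈ CX b x := by
  refine ⟨hc, ?_⟩
  have h2 : qm (centralizer {b}) (⟨c, mem_centralizer_singleton_iff.2 hc⟩ * ⟨x, mem_centralizer_singleton_iff.2 hx⟩ *
      ⟨c, mem_centralizer_singleton_iff.2 hc⟩⁻¹ * ⟨x, mem_centralizer_singleton_iff.2 hx⟩⁻¹) = 1 := by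
    rw [map_mul, map_mul, map_mul, h, map_inv, map_inv]
    group
  exact (mem_ker_iff _).1 h2

end

end Cfsg.Agent.Cit.FC
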