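import Cfsg.Agent.Cit.FC.Rel

/-!
# Cores for `|E| = |Om(S)| = 4`: THEOREM F applies to `A = ⟨E, v w⟩`

`Pair.tor_four` : `P : Pair Om S K L v w`, `T : Pair2 Om S K₁ K₂ ..` with `zz K₁ ≠ zz K`, the fact `KAB` for `K`, `L` in
`C(zz K₁) / O(C(zz K₁))` and the generation of `C(zz K)` by `T.fst.A` give `Tor (P.A h hS)`.
-/

set_option autoImplicit false
set_option linter.style.haveILetI false
set_option linter.unusedSectionVars false

namespace Cfsg.Agent.Cit.FC

open Subgroup Cfsg Cfsg.Agent.Cit SubCent UseT TorFunctor CoresG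

universe u

variable {G : Type u} [Group G] [Finite G] {Om : Set (Subgroup G)}

/-- generation of `C(s)` modulo `O(C(s))` by the centralisers of the elements of `A` -/
def Gen (Om : Set (Subgroup G)) (A : Subgroup G) (s : G) : Prop :=
  LL Om (centralizer {s}) ≤ XX s ⊔ ⨆ (b : G) (_ : b ∈ A ∧ b ≠ 1 ∧ b ≠ s), centralizer {s} ⊓ centralizer {b}

namespace Pair

section

variable {S : Subgroup G} {K L : Subgroup G} {v w : G} (P : Pair Om S K L v w) (h : Hyp Om) (hS : IsPGroup 2 S)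

include P h hS in
/-- case (1) of (TOR): `b = z ∈ E`, `z ≠ zz K` -/
theorem ka_mem (ty : ∀ K ∈ Om, IsType K) {z : G} (hz : z ∈ ES Om S)
    (hkab : KAB (fam Om (centralizer {z})) (tr (centralizer {z}) K) (tr (centralizer {z}) L)) {v' : G}
    (hv' : v' ∈ K ⊓ S) (hvv : v' * v' = zz K) {c : G} (hc : c = 1 ∨ c = z) {x : G} (hx : x ∈ XX (v' * w * c))
    (hxz : x * z = z * x) : zz K ∈ CX z x := by
  have P' : Pair Om S K L v' w := ⟨P.hK, P.hL, P.ne, P.eq, hv', P.w_mem, hvv, P.ww⟩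
  have hKE := zz_mem_ES P.hK
  have hKc := mem_cov h hS P.hK hz
  have hLc := mem_cov h hS P.hL hz
  have hvS : v' ∈ centralizer ({z} : Set G) := DD_le_cent h hS hz (inf_le_DD P.hK hv')
  have hwS : w ∈ centralizer ({z} : Set G) := DD_le_cent h hS hz (inf_le_DD P.hL P.w_mem)
  have hzH : z ∈ centralizer ({z} : Set G) := mem_centralizer_singleton_iff.2 rfl
  have hcH : c ∈ centralizer ({z} : Set G) := by
    rcases hc with rfl | rfl
    · exact one_mem _
    · exact hzH
  have hxH : x ∈ centralizer ({z} : Set G) := mem_centralizer_singleton_iff.2 hxz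
  have hKz : zz K * z = z * zz K := ES_comm h hS hKE hz
  obtain ⟨n, hn⟩ := hS ⟨v', hv'.2⟩
  obtain ⟨m, hm⟩ := hS ⟨w, P.w_mem.2⟩
  have hn' : v' ^ 2 ^ n = 1 := congrArg Subtype.val hn
  have hm' : w ^ 2 ^ m = 1 := congrArg Subtype.val hm
  have hv : qm (centralizer {z}) ⟨v', hvS⟩ ∈ tr (centralizer {z}) K :=
    mem_tr ty hKc (x := ⟨v', hvS⟩) hv'.1 (a := n) (Subtype.ext hn')
  have hw : qm (centralizer {z}) ⟨w, hwS⟩ ∈ tr (centralizer {z}) L :=
    mem_tr ty hLc (x := ⟨w, hwS⟩) P.w_mem.1 (a := m) (Subtype.ext hm')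
  have hzz := zz_tr h ty hKc
  have hvv' : qm (centralizer {z}) ⟨v', hvS⟩ * qm (centralizer {z}) ⟨v', hvS⟩ = zz (tr (centralizer {z}) K) := by
    rw [hzz, ← map_mul]
    congr 1
    exact Subtype.ext hvv
  have hww' : qm (centralizer {z}) ⟨w, hwS⟩ * qm (centralizer {z}) ⟨w, hwS⟩ = zz (tr (centralizer {z}) K) := by
    rw [hzz, ← map_mul]
    congr 1
    exact Subtype.ext P.ww
  -- the involution `v' w c`
  have hf2 : v' * w * c * (v' * w * c) = 1 := by
    have h1 : v' * w * (v' * w) = 1 := P'.sq h hS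
    rcases hc with rfl | rfl
    · rw [mul_one, h1]
    · have h2 : c * (v' * w) = v' * w * c := P'.comm_ES h hS c hz
      calc v' * w * c * (v' * w * c) = v' * w * (c * (v' * w)) * c := by group
        _ = v' * w * (v' * w * c) * c := by rw [h2]
        _ = (v' * w * (v' * w)) * (c * c) := by group
        _ = 1 := by rw [h1, ES_sq h hS hz, mul_one]
  have hfH : v' * w * c ∈ centralizer ({z} : Set G) := mul_mem (mul_mem hvS hwS) hcH
  have h1 := qm_mem_XX (H := centralizer ({z} : Set G)) (b := ⟨v' * w * c, hfH⟩) (x := ⟨x, hxH⟩)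
    (Subtype.ext hf2) hx
  have e1 : (⟨v' * w * c, hfH⟩ : centralizer ({z} : Set G)) = ⟨v', hvS⟩ * ⟨w, hwS⟩ * ⟨c, hcH⟩ := rfl
  rw [e1, map_mul, map_mul] at h1
  have hcen : ∀ y : HQ (centralizer ({z} : Set G)), qm (centralizer {z}) ⟨c, hcH⟩ * y =
      y * qm (centralizer {z}) ⟨c, hcH⟩ := by
    intro y
    obtain ⟨y, rfl⟩ := qm_surjective _ y
    rw [← map_mul, ← map_mul]
    congr 1
    refine Subtype.ext ?_
    change c * (y : G) = y * c
    rcases hc with h3 | h3
    · rw [h3, one_mul, mul_one]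
    · rw [h3]; exact (mem_centralizer_singleton_iff.1 y.2).symm
  have h2 : qm (centralizer {z}) ⟨x, hxH⟩ ∈
      XX (qm (centralizer {z}) ⟨v', hvS⟩ * qm (centralizer {z}) ⟨w, hwS⟩) := by
    rwa [XX_mul_central hcen] at h1
  have h3 := hkab.ka _ hv _ hw hvv' hww' _ h2
  rw [hzz] at h3
  exact mem_CX_of_qm hxz hKz h3.symm

omit P in
include h hS in
/-- the elements of `E` -/
theorem mem_E (h4 : Nat.card (ES Om S) = 4) {z z' : G} (hz : z ∈ ES Om S) (hz' : z' ∈ ES Om S) (hz1 : z ≠ 1)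
    (hz1' : z' ≠ 1) (hne : z' ≠ z) {e : G} (he : e ∈ ES Om S) : e = 1 ∨ e = z ∨ e = z' ∨ e = z * z' := by
  have h1 : ES Om S ≤ four z z' (ES_sq h hS hz) (ES_sq h hS hz') (ES_comm h hS hz hz') := by
    refine le_of_two (fun a ha b hb => ES_comm h hS ha hb) (fun a ha => ES_sq h hS ha) h4 hz hz' hz1 hz1' hne ?_ ?_
    · exact Or.inr (Or.inl rfl)
    · exact Or.inr (Or.inr (Or.inl rfl))
  exact h1 he

/-- case (1) of (TOR) for all `a ∈ A ∖ E` -/
theorem ka_A (ty : ∀ K ∈ Om, IsType K) (h4 : Nat.card (ES Om S) = 4) {z : G} (hz : z ∈ ES Om S) (hz1 : z ≠ 1)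
    (hKz : zz K ≠ z)
    (hkab : KAB (fam Om (centralizer {z})) (tr (centralizer {z}) K) (tr (centralizer {z}) L)) {a : G}
    (ha : a ∈ P.A h hS) (haE : a ∉ ES Om S) {x : G} (hx : x ∈ XX a) (hxz : x * z = z * x) : zz K ∈ CX z x := by
  have h1 := P.A_eq_ES_or h hS ha haE
  obtain ⟨e, he⟩ : ∃ e, e = a * (v * w) := ⟨_, rfl⟩
  rw [← he] at h1
  have hff := P.sq h hS
  have hea : a = e * (v * w) := by
    rw [he, mul_assoc, hff, mul_one]
  have hve : e * (v * w) = v * w * e := P.comm_ES h hS e h1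
  -- `zz K * v = v⁻¹`
  have hKK := h.zz_mul P.hK.1
  have hKv : v * zz K = zz K * v := by
    rw [← P.vv, mul_assoc]
  have hvi : zz K * v = v⁻¹ := by
    rw [eq_comm, inv_eq_iff_mul_eq_one, ← mul_assoc, hKv, mul_assoc, P.vv, hKK]
  have hvv : v⁻¹ * v⁻¹ = zz K := by
    have h2 : v⁻¹ * v⁻¹ = (v * v)⁻¹ := by rw [mul_inv_rev]
    rw [h2, P.vv]
    exact inv_of_sq hKK
  have hzv : z * (v * w) = v * w * z := P.comm_ES h hS z hz
  rcases mem_E h hS h4 hz (zz_mem_ES P.hK) hz1 (h.zz_ne P.hK.1) hKz h1 with h2 | h2 | h2 | h2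
  · rw [hea, h2, one_mul, ← mul_one (v * w)] at hx
    exact P.ka_mem h hS ty hz hkab P.v_mem P.vv (Or.inl rfl) hx hxz
  · rw [hea, h2, hzv] at hx
    exact P.ka_mem h hS ty hz hkab P.v_mem P.vv (Or.inr rfl) hx hxz
  · rw [hea, h2, ← mul_assoc, hvi, ← mul_one (v⁻¹ * w)] at hx
    exact P.ka_mem h hS ty hz hkab (inv_mem P.v_mem) hvv (Or.inl rfl) hx hxz
  · have h3 : z * zz K * (v * w) = v⁻¹ * w * z := by
      have P' : Pair Om S K L v⁻¹ w := ⟨P.hK, P.hL, P.ne, P.eq, inv_mem P.v_mem, P.w_mem, hvv, P.ww⟩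
      have h5 : z * (v⁻¹ * w) = v⁻¹ * w * z := P'.comm_ES h hS z hz
      calc z * zz K * (v * w) = z * ((zz K * v) * w) := by group
        _ = z * (v⁻¹ * w) := by rw [hvi]
        _ = v⁻¹ * w * z := h5
    rw [hea, h2, h3] at hx
    exact P.ka_mem h hS ty hz hkab (inv_mem P.v_mem) hvv (Or.inr rfl) hx hxz

end

variable {S : Sylow 2 G} {K L : Subgroup G} {v w : G} (P : Pair Om (S : Subgroup G) K L v w) (h : Hyp Om)

/-- **THEOREM F applies to `A = ⟨E, v w⟩`**, `|Om(S)| = 4` -/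
theorem tor_four (hE : GenChart.ExcTrip.{u}) (hzv : ZVStmt.{u}) (hfix : FixStmt.{u}) (hodd : OddStmt.{u})
    (hct : CTStmt.{u}) (ty : ∀ K ∈ Om, IsType K) (h4 : Nat.card (ES Om (S : Subgroup G)) = 4)
    (hp : ∀ b, b * b = 1 → b ≠ 1 → HasPieces (fam Om (centralizer {b}))) {K₁ K₂ : Subgroup G} {v₁ v₂ w₁ w₂ : G}
    (T : Pair2 Om (S : Subgroup G) K₁ K₂ v₁ v₂ w₁ w₂) (hne : zz K₁ ≠ zz K)
    (hkab : KAB (fam Om (centralizer {zz K₁})) (tr (centralizer {zz K₁}) K) (tr (centralizer {zz K₁}) L))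
    (hgen : Gen Om (T.fst.A h S.isPGroup') (zz K)) : Tor (P.A h S.isPGroup') where
  solv X hX := hodd X fun h2 => hX h2
  comm := P.A_comm h S.isPGroup'
  sq a ha := by rw [pow_two]; exact P.A_sq h S.isPGroup' a ha
  card := by rw [P.card_A_eq h S.isPGroup' h4]
  tor a ha ha1 b hb hb1 := P.tor_of_CX h S.isPGroup' fun x hx hxb => by
    have hS := S.isPGroup'
    have hbb := P.A_sq h hS b hb
    have haa := P.A_sq h hS a ha
    have hpb := hp b hbb hb1
    have hK₁K : K₁ ≠ K := fun h1 => hne (by rw [h1])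
    have hK₁L : K₁ ≠ L := fun h1 => hne (by rw [h1, P.eq])
    have hKK₁ : K ≠ K₁ := hK₁K.symm
    have hKK₂ : K ≠ K₂ := fun h1 => hne (by rw [h1, T.fst.eq])
    have hzE := zz_mem_ES T.fst.hK
    have hzE' := zz_mem_ES P.hK
    have hz1 := h.zz_ne T.fst.hK.1
    have hz1' := h.zz_ne P.hK.1
    have hzA := P.ES_le_A h hS hzE
    have two : ∀ {H : Subgroup G} {c : G}, c ∈ ES Om (S : Subgroup G) → c ≠ 1 → c ≠ zz K₁ → zz K₁ ∈ H → c ∈ H →
        ES Om (S : Subgroup G) ≤ H := fun hc hc1 hcz h1 h2 =>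
      le_of_two (fun a ha b hb => ES_comm h hS ha hb) (fun a ha => ES_sq h hS ha) h4 hzE hc hz1 hc1 hcz h1 h2
    refine P.A_le_CX h hS hct ty ha hb hpb hx hxb ?_
    have hzC : zz K₁ ∈ CX b x := P.inf_le_CX h hS hct ty T.fst.hK hK₁K hK₁L ha hb hpb hx hxb
      (h.zz_mem_inf hS T.fst.hK)
    -- (P)
    have hP : b ∉ ES Om (S : Subgroup G) → ∀ y ∈ XX (zz K₁), y * b = b * y → zz K ∈ CX b y := fun _ y hy hyb =>
      T.mem_CX h hE hzv hfix hodd hct ty h4 hp P.hK hKK₁ hKK₂ hne hgen hbb hb1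
        (fun e he => P.A_comm h hS e (P.ES_le_A h hS he) b hb)
        (fun q hq => P.A_comm_of_ne h hS T.fst.hK hK₁K hK₁L hb hq)
        (fun q hq => P.A_comm_of_ne h hS T.fst.hL (fun h1 => hne (by rw [T.fst.eq, h1]))
          (fun h1 => hne (by rw [T.fst.eq, h1, P.eq])) hb hq) hy hyb
    by_cases hbE : b ∈ ES Om (S : Subgroup G)
    · by_cases haE : a ∈ ES Om (S : Subgroup G)
      · exact (ES_le_DD h hS).trans (DD_le_CX h hS hct ty haE hbE hpb hx hxb)
      · by_cases hbz : b = zz K₁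
        · subst hbz
          exact two hzE' hz1' (Ne.symm hne) hzC (P.ka_A h hS ty h4 hzE hz1 (Ne.symm hne) hkab ha haE hx hxb)
        · exact two hbE hb1 hbz hzC (self_mem_CX hxb)
    · by_cases haE : a ∈ ES Om (S : Subgroup G)
      · by_cases haz : a = zz K₁
        · rw [haz] at hx
          exact two hzE' hz1' (Ne.symm hne) hzC (hP hbE x hx hxb)
        · exact two haE ha1 haz hzC (CX_of_comm (P.A_comm h hS a ha b hb) (CT.comm_of_mem_XX hx).symm)
      · have hab := P.mul_mem_ES h hS ha hb haE hbE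
        have haC : a ∈ CX b x := CX_of_comm (P.A_comm h hS a ha b hb) (CT.comm_of_mem_XX hx).symm
        have habC : a * b ∈ CX b x := mul_mem haC (self_mem_CX hxb)
        by_cases hab1 : a * b = 1
        · have h5 : a = b := by
            rw [mul_eq_one_iff_eq_inv] at hab1
            rw [hab1]
            exact inv_of_sq hbb
          rw [h5] at hx
          exact fun e he => CX_of_mem (P.A_comm h hS e (P.ES_le_A h hS he) b hb) hx
        by_cases habz : a * b = zz K₁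
        · -- `a = z b`
          have h5 : a = zz K₁ * b := by
            rw [← habz, mul_assoc, hbb, mul_one]
          have hxa : x * a = a * x := CT.comm_of_mem_XX hx
          have hxz : x * zz K₁ = zz K₁ * x := by
            rw [← habz, ← mul_assoc, hxa, mul_assoc, hxb, ← mul_assoc]
          have h6 := P.ka_A h hS ty h4 hzE hz1 (Ne.symm hne) hkab ha haE hx hxz
          obtain ⟨y, hy⟩ : ∃ y, y = zz K * x * (zz K)⁻¹ * x⁻¹ := ⟨_, rfl⟩
          have hyX : y ∈ XX (zz K₁) := by rw [hy]; exact h6.2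
          have hKb : zz K * b = b * zz K := P.A_comm h hS _ (P.ES_le_A h hS hzE') b hb
          have hyb : y * b = b * y := by
            have h7 : y ∈ centralizer ({b} : Set G) := by
              have e1 : zz K ∈ centralizer ({b} : Set G) := mem_centralizer_singleton_iff.2 hKb
              have e2 : x ∈ centralizer ({b} : Set G) := mem_centralizer_singleton_iff.2 hxb
              rw [hy]; exact mul_mem (mul_mem (mul_mem e1 e2) (inv_mem e1)) (inv_mem e2)
            exact mem_centralizer_singleton_iff.1 h7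
          have h7 := (hP hbE y hyX hyb).2
          have hKK := h.zz_mul P.hK.1
          have hKi := inv_of_sq hKK
          have h8 : zz K * y * (zz K)⁻¹ = y⁻¹ := by
            calc zz K * y * (zz K)⁻¹ = (zz K * zz K) * x * (zz K)⁻¹ * x⁻¹ * (zz K)⁻¹ := by rw [hy]; group
              _ = x * (zz K)⁻¹ * x⁻¹ * (zz K)⁻¹ := by rw [hKK, one_mul]
              _ = x * zz K * x⁻¹ * (zz K)⁻¹ := by rw [hKi]
              _ = y⁻¹ := by rw [hy]; group
          rw [h8] at h7
          have h9 : y * y ∈ XX b := by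
            have h10 := inv_mem h7
            have h11 : (y⁻¹ * y⁻¹)⁻¹ = y * y := by rw [mul_inv_rev, inv_inv]
            rwa [h11] at h10
          have h10 : y ∈ XX b := Weights.mem_of_sq_mem (not_dvd_iff_odd.1 (odd_XX (zz K₁))) hyX h9
          exact two hzE' hz1' (Ne.symm hne) hzC ⟨hKb, by rw [← hy]; exact h10⟩
        · exact two hab hab1 habz hzC habC
  two B hB hB4 s hs hs1 := by
    have hS := S.isPGroup'
    have hK₁K : K₁ ≠ K := fun h1 => hne (by rw [h1])
    have hK₁L : K₁ ≠ L := fun h1 => hne (by rw [h1, P.eq])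
    have hps := hp s (P.A_sq h hS s hs) hs1
    by_cases hsz : zz K₁ = s
    · subst hsz
      exact P.two_of_kab h hS hodd ty h4 (zz_mem_ES T.fst.hK) hs1 (Ne.symm hne) hps hkab hB hB4
    · exact P.two_of_witness h hS hE hfix hodd ty h4 hs hs1 hps T.fst.hK hK₁K hK₁L hsz hB hB4

end Pair

end Cfsg.Agent.Cit.FC
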