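import Cfsg.Agent.Cit.FC.Out
import Cfsg.Agent.Cit.FC.TorFour
import Cfsg.Agent.Cit.Four.CorAll

/-!
# The cores for `|E(S)| = 4`, `|Om(S)| ≥ 5`

* `Pair.gen_of_witness`, `Pair.gen_of_kab` : `Gen Om A s`;
* `cor4_of_five`, `corFive` : `Four.CorFive`.
-/

set_option autoImplicit false
set_option linter.style.haveILetI false
set_option linter.unusedSectionVars false

namespace Cfsg.Agent.Cit.FC

open Subgroup Cfsg Cfsg.Agent.Cit SubCent UseT TorFunctor CoresG CovES GenChart Four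

universe u

namespace Pair

variable {G : Type u} [Group G] [Finite G] {Om : Set (Subgroup G)} {S K L M : Subgroup G} {v w s : G}
variable (P : Pair Om S K L v w) (h : Hyp Om) (hS : IsPGroup 2 S) (ty : ∀ K ∈ Om, IsType K)
include ty

/-- **(G)** with a witness -/
theorem gen_of_witness (hE : ExcTrip.{u}) (h4 : 4 ≤ Nat.card (ES Om S)) (hs : s ∈ ES Om S)
    (hp : HasPieces (fam Om (centralizer {s}))) (hM : M ∈ OmS Om S) (hMK : M ≠ K) (hML : M ≠ L) (hMs : zz M ≠ s) :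
    FC.Gen Om (P.A h hS) s := P.LL_le_of_witness h hS ty hE hs hp h4 hM hMK hML hMs

/-- **(G)** from `KAB` -/
theorem gen_of_kab (hs : s ∈ ES Om S) (hsK : zz K ≠ s)
    (hkab : KAB (fam Om (centralizer {s})) (tr (centralizer {s}) K) (tr (centralizer {s}) L)) :
    FC.Gen Om (P.A h hS) s := by
  refine P.LL_le_of_block h hS ty hs hsK (hkab.kb.imp id fun hkb => ?_)
  have hKc := CoresG.mem_cov h hS P.hK hs
  have hLc := CoresG.mem_cov h hS P.hL hs
  have hvS : v ∈ centralizer ({s} : Set G) := DD_le_cent h hS hs (inf_le_DD P.hK P.v_mem)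
  have hwS : w ∈ centralizer ({s} : Set G) := DD_le_cent h hS hs (inf_le_DD P.hL P.w_mem)
  have hzS : zz K ∈ centralizer ({s} : Set G) := ES_le_cent h hS hs (zz_mem_ES P.hK)
  obtain ⟨n, hn⟩ := hS ⟨v, P.v_mem.2⟩
  obtain ⟨m, hm⟩ := hS ⟨w, P.w_mem.2⟩
  have hn' : v ^ 2 ^ n = 1 := congrArg Subtype.val hn
  have hm' : w ^ 2 ^ m = 1 := congrArg Subtype.val hm
  have hv : qm (centralizer {s}) ⟨v, hvS⟩ ∈ tr (centralizer {s}) K :=
    mem_tr ty hKc (x := ⟨v, hvS⟩) P.v_mem.1 (a := n) (Subtype.ext hn')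
  have hw : qm (centralizer {s}) ⟨w, hwS⟩ ∈ tr (centralizer {s}) L :=
    mem_tr ty hLc (x := ⟨w, hwS⟩) P.w_mem.1 (a := m) (Subtype.ext hm')
  have hzz := zz_tr h ty hKc
  have hvv : qm (centralizer {s}) ⟨v, hvS⟩ * qm (centralizer {s}) ⟨v, hvS⟩ = zz (tr (centralizer {s}) K) := by
    rw [hzz, ← map_mul]
    congr 1
    exact Subtype.ext P.vv
  have hww : qm (centralizer {s}) ⟨w, hwS⟩ * qm (centralizer {s}) ⟨w, hwS⟩ = zz (tr (centralizer {s}) K) := by
    rw [hzz, ← map_mul]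
    congr 1
    exact Subtype.ext P.ww
  refine (hkb _ hv _ hw hvv hww).trans ?_
  have hf := P.f_mem_A h hS
  have hzE := zz_mem_ES P.hK
  have hzA := P.ES_le_A h hS hzE
  have hfE := P.notMem h hS
  have hfz : v * w * zz K ∉ ES Om S := fun h1 => hfE (by
    have h2 := mul_mem h1 hzE
    rwa [mul_assoc, h.zz_mul P.hK.1, mul_one] at h2)
  have key : ∀ b : centralizer ({s} : Set G), (b : G) ∈ P.A h hS ∧ (b : G) ≠ 1 ∧ (b : G) ≠ s →
      centralizer {qm (centralizer {s}) b} ≤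
        ⨆ (b : centralizer ({s} : Set G)) (_ : (b : G) ∈ P.A h hS ∧ (b : G) ≠ 1 ∧ (b : G) ≠ s),
          centralizer {qm (centralizer {s}) b} := fun b hb =>
    le_iSup₂ (f := fun (b : centralizer ({s} : Set G)) (_ : (b : G) ∈ P.A h hS ∧ (b : G) ≠ 1 ∧ (b : G) ≠ s) =>
      centralizer {qm (centralizer {s}) b}) b hb
  rw [CT.GB_le_iff]
  rintro b (rfl | rfl | rfl)
  · rw [hzz]
    exact inf_le_left.trans (key ⟨zz K, hzS⟩ ⟨hzA, h.zz_ne P.hK.1, hsK⟩)
  · rw [← map_mul]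
    refine inf_le_left.trans (key (⟨v, hvS⟩ * ⟨w, hwS⟩) ⟨hf, ?_, ?_⟩)
    · intro h1
      apply hfE
      have h2 : v * w = 1 := h1
      rw [h2]; exact one_mem _
    · intro h1
      apply hfE
      have h2 : v * w = s := h1
      rw [h2]; exact hs
  · rw [hzz, ← map_mul, ← map_mul]
    refine inf_le_left.trans (key (⟨v, hvS⟩ * ⟨w, hwS⟩ * ⟨zz K, hzS⟩) ⟨mul_mem hf hzA, ?_, ?_⟩)
    · intro h1
      apply hfz
      have h2 : v * w * zz K = 1 := h1
      rw [h2]; exact one_mem _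
    · intro h1
      apply hfz
      have h2 : v * w * zz K = s := h1
      rw [h2]; exact hs

end Pair

/-- **the cores for `|E(S)| = 4`, `|Om(S)| ≥ 5`** -/
theorem cor4_of_five {G : Type u} [Group G] [Finite G] {Om : Set (Subgroup G)} (hE : ExcTrip.{u})
    (hodd : OddStmt.{u}) (hfix : FixStmt.{u}) (hct : CTStmt.{u}) (hm : MinS Om) (hcl : CloseE Om) (S : Sylow 2 G)
    (h4 : Nat.card (ES Om (S : Subgroup G)) = 4) (h5 : 5 ≤ (OmS Om (S : Subgroup G)).ncard) :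
    Cor4 Om (S : Subgroup G) :=
  cor4_of_five_of_tor hE hm hct hcl S h4 h5 fun _ _ _ _ P _ hM₁ _ hM₂ h1 h2 h3 h5' h6 =>
    P.tor_of_two hm.hyp S.isPGroup' hE hfix hodd hct hm.isType h4 (fun _ _ hb1 => hm.fam_cent hb1) hM₁ hM₂ h1 h2 h3
      h5' h6

theorem corFive (hE : ExcTrip.{u}) (hodd : OddStmt.{u}) (hfix : FixStmt.{u}) (hct : CTStmt.{u}) : CorFive.{u} :=
  fun _ _ _ _ hm hcl S h4 h5 => cor4_of_five hE hodd hfix hct hm hcl S h4 h5

end Cfsg.Agent.Cit.FC
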