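import Cfsg.Agent.Cit.FC.Gen
import Cfsg.Agent.Cit.CoresCore

/-!
# Cores for `|E| = 4`: the output

`Pair Om S K L v w`, `A = P.A`.

* `Pair.centralizer_le` : (TOR) for `A` and (G) for `s` give `C(s) ≤ N(D(A))`;
* `Pair.DF_eq_bot` : (TOR), (G) for all `s ∈ E`, `s ≠ 1`, and `CloseE Om` give `D(A) = 1`;
* `cor4_of_pairs` : `Cor4 Om S`, if this holds for all choices of `v ∈ K ⊓ S`, `w ∈ L ⊓ S`.
-/

set_option autoImplicit false
set_option linter.style.haveILetI false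
set_option linter.unusedSectionVars false

namespace Cfsg.Agent.Cit.FC

open Subgroup Cfsg Cfsg.Agent.Cit SubCent UseT TorFunctor CoresG CovES GenChart Four
open scoped commutatorElement

universe u

variable {G : Type u} [Group G] [Finite G] {Om : Set (Subgroup G)}

namespace Pair

variable {K L : Subgroup G} {v w : G}

/-- `C(s) ≤ N(D(A))` -/
theorem centralizer_le {S : Sylow 2 G} (P : Pair Om (S : Subgroup G) K L v w) (h : Hyp Om) (ty : ∀ K ∈ Om, IsType K)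
    (h4 : Nat.card (ES Om (S : Subgroup G)) = 4) (T : Tor (P.A h S.isPGroup')) {s : G}
    (hs : s ∈ ES Om (S : Subgroup G)) (hs1 : s ≠ 1)
    (hG : LL Om (centralizer {s}) ≤ GS (P.A h S.isPGroup') s) :
    centralizer {s} ≤ normalizer (DF (P.A h S.isPGroup') : Set G) := by
  have hS := S.isPGroup'
  refine T.fout.centralizer_le_of_gen h S (P.A_sq h hS) (P.A_comm h hS) ?_ (P.ES_le_A h hS hs) hs1
    (LL_normal h ty _) (DD_le_LL h ty hS hs) hG
  exact (normalizer_DD_le h hS).trans (T.normalizer_le (P.ES_le_A h hS) h4.ge)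

/-- `D(A) = 1` -/
theorem DF_eq_bot (hm : MinS Om) (hcl : CloseE Om) {S : Sylow 2 G} (P : Pair Om (S : Subgroup G) K L v w)
    (h4 : Nat.card (ES Om (S : Subgroup G)) = 4) (T : Tor (P.A hm.hyp S.isPGroup'))
    (hG : ∀ s ∈ ES Om (S : Subgroup G), s ≠ 1 → LL Om (centralizer {s}) ≤ GS (P.A hm.hyp S.isPGroup') s) :
    DF (P.A hm.hyp S.isPGroup') = ⊥ := by
  refine hm.eq_bot_of_odd ?_ T.odd
  rw [← normalizer_eq_top_iff]
  exact hcl S _ (T.normalizer_le (P.ES_le_A hm.hyp S.isPGroup') h4.ge) fun s hs hs1 =>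
    P.centralizer_le hm.hyp hm.isType h4 T hs hs1 (hG s hs hs1)

end Pair

/-- a generalised quaternion group is generated by the elements `v` with `v² = z` -/
theorem gq_le_of_sq {Q C : Subgroup G} {c v z : G} {n : ℕ} (hq : GQ Q c v z n) (hC : ∀ x ∈ Q, x * x = z → x ∈ C) :
    Q ≤ C := by
  have hv : v ∈ C := hC v hq.v_mem hq.v_sq
  have hvc : v * c ∈ C := by
    refine hC _ (mul_mem hq.v_mem hq.c_mem) ?_
    calc v * c * (v * c) = (v * c * v⁻¹) * (v * v) * c := by group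
      _ = c⁻¹ * z * c := by rw [hq.conj, hq.v_sq]
      _ = c⁻¹ * (c ^ 2 ^ (n + 1)) * c := by rw [hq.z_eq]
      _ = c ^ 2 ^ (n + 1) := by group
      _ = z := hq.z_eq
  have hc : c ∈ C := by
    have h1 := mul_mem (inv_mem hv) hvc
    rwa [inv_mul_cancel_left] at h1
  intro x hx
  rcases hq.cov x hx with ⟨i, rfl⟩ | ⟨i, rfl⟩
  · exact pow_mem hc i
  · exact mul_mem hv (pow_mem hc i)

/-- **the output** -/
theorem cor4_of_pairs (hm : MinS Om) (S : Sylow 2 G)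
    (h4 : Nat.card (ES Om (S : Subgroup G)) = 4) {K L : Subgroup G}
    (hK : K ∈ OmS Om (S : Subgroup G)) (hL : L ∈ OmS Om (S : Subgroup G)) (hne : K ≠ L) (hz : zz K = zz L)
    (hT : ∀ v w, ∀ P : Pair Om (S : Subgroup G) K L v w,
      Tor (P.A hm.hyp S.isPGroup') ∧ DF (P.A hm.hyp S.isPGroup') = ⊥)
    (hTOR : ∀ v w, ∀ P : Pair Om (S : Subgroup G) K L v w, ∀ M ∈ OmS Om (S : Subgroup G), M ≠ K → M ≠ L →
      ∀ a ∈ P.A hm.hyp S.isPGroup', a ≠ 1 → ∀ b ∈ P.A hm.hyp S.isPGroup', b ≠ 1 →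
        ⁅XX a ⊓ centralizer {b}, M ⊓ (S : Subgroup G)⁆ ≤ XX b) : Cor4 Om (S : Subgroup G) := by
  have h := hm.hyp
  have hS := S.isPGroup'
  -- a pair
  have hex : ∀ {K : Subgroup G}, K ∈ OmS Om (S : Subgroup G) → ∃ v ∈ K ⊓ (S : Subgroup G), v * v = zz K := by
    intro K hK
    obtain ⟨c, v, n, hq⟩ := h.exists_gq hK.1 (syl_inf hS hK)
    exact ⟨v, hq.v_mem, hq.v_sq⟩
  obtain ⟨v0, hv0, hvv0⟩ := hex hK
  obtain ⟨w0, hw0, hww0⟩ := hex hL
  have P0 : Pair Om (S : Subgroup G) K L v0 w0 := ⟨hK, hL, hne, hz, hv0, hw0, hvv0, by rw [hww0, hz]⟩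
  -- the commutators
  have key : ∀ {v w : G}, Pair Om (S : Subgroup G) K L v w → ∀ s ∈ ES Om (S : Subgroup G), s ≠ 1 →
      v * w ∈ centralizer (XX s : Set G) := by
    intro v w P s hs hs1
    have h1 := (hT v w P).1.commutator_XX_le (P.ES_le_A h hS hs) hs1
    rw [(hT v w P).2, le_bot_iff, commutator_comm, commutator_eq_bot_iff_le_centralizer] at h1
    exact h1 (P.f_mem_A h hS)
  have hgen : ∀ {K L : Subgroup G}, K ∈ OmS Om (S : Subgroup G) → (∀ v ∈ K ⊓ (S : Subgroup G), v * v = zz K →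
      ∃ w, ∀ s ∈ ES Om (S : Subgroup G), s ≠ 1 → ∀ v' ∈ K ⊓ (S : Subgroup G), v' * v' = zz K →
        v' * w ∈ centralizer (XX s : Set G)) → ∀ s ∈ ES Om (S : Subgroup G), s ≠ 1 → ⁅XX s, K ⊓ (S : Subgroup G)⁆ = ⊥ := by
    intro K L hK hex s hs hs1
    rw [commutator_comm, commutator_eq_bot_iff_le_centralizer]
    obtain ⟨c, v, n, hq⟩ := h.exists_gq hK.1 (syl_inf hS hK)
    refine gq_le_of_sq hq fun x hx hxx => ?_
    obtain ⟨w, hw⟩ := hex x hx hxx
    -- an element inverting `x`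
    have hx4 : orderOf x = 4 := GQ.orderOf_of_sq hxx (h.zz_mul hK.1) (h.zz_ne hK.1)
    obtain ⟨y, hy, hy4, hyx⟩ := hq.exists_inverting hx hx4
    have hyy : y * y = zz K := h.sq_eq_zz hK.1 (mem_inf.1 hy).1 hy4
    have h1 : x * y * (x * y) = zz K := by
      calc x * y * (x * y) = x * (y * x * y⁻¹) * (y * y) := by group
        _ = zz K := by rw [hyx, mul_inv_cancel, one_mul, hyy]
    have h2 := mul_mem (hw s hs hs1 _ (mul_mem hx hy) h1) (inv_mem (hw s hs hs1 y hy hyy))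
    have h3 : x * y * w * (y * w)⁻¹ = x := by group
    rwa [h3] at h2
  refine ⟨fun s hs hs1 => hm.fam_cent hs1, fun s hs hs1 M hM => ?_, ?_⟩
  · by_cases hMK : M = K
    · subst hMK
      refine hgen (L := L) hM (fun v hv hvv => ⟨w0, fun s hs hs1 v' hv' hvv' => ?_⟩) s hs hs1
      exact key ⟨hM, hL, hne, hz, hv', hw0, hvv', by rw [hww0, hz]⟩ s hs hs1
    by_cases hML : M = L
    · subst hML
      refine hgen (L := K) hM (fun v hv hvv => ⟨v0, fun s hs hs1 v' hv' hvv' => ?_⟩) s hs hs1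
      have h1 : Pair Om (S : Subgroup G) K M v0 v' := ⟨hK, hM, hne, hz, hv0, hv', hvv0, by rw [hvv', hz]⟩
      rw [← h1.comm h hS]
      exact key h1 s hs hs1
    · have h1 := (hT v0 w0 P0).1.commutator_Q_le (Q := M ⊓ (S : Subgroup G)) (hS.to_le inf_le_right)
        (fun q hq a ha => P0.A_comm_of_ne h hS hM hMK hML ha hq) (hTOR v0 w0 P0 M hM hMK hML)
        (P0.ES_le_A h hS hs) hs1
      rwa [(hT v0 w0 P0).2, le_bot_iff] at h1
  · have h1 := Dl_le_DF' (P0.ES_le_A h hS) h4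
    rwa [(hT v0 w0 P0).2, le_bot_iff] at h1

/-- `⁅XX a ⊓ C(b), M ⊓ S⁆ ≤ XX b` -/
theorem Pair.commutator_inf_le (hct : CTStmt.{u}) {S K L M : Subgroup G} {v w : G} (P : Pair Om S K L v w)
    (h : Hyp Om) (hS : IsPGroup 2 S) (ty : ∀ K ∈ Om, IsType K) (hM : M ∈ OmS Om S) (hMK : M ≠ K) (hML : M ≠ L)
    {a b : G} (ha : a ∈ P.A h hS) (hb : b ∈ P.A h hS) (hp : HasPieces (fam Om (centralizer {b}))) :
    ⁅XX a ⊓ centralizer {b}, M ⊓ S⁆ ≤ XX b := by
  rw [commutator_comm, Subgroup.commutator_le]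
  rintro q hq x ⟨hx, hxb⟩
  rw [commutatorElement_def]
  exact (P.inf_le_CX h hS hct ty hM hMK hML ha hb hp hx (mem_centralizer_singleton_iff.1 hxb) hq).2

/-- **the output**, from (TOR) and (G) -/
theorem cor4_of_tor (hm : MinS Om) (hct : CTStmt.{u}) (hcl : CloseE Om) (S : Sylow 2 G)
    (h4 : Nat.card (ES Om (S : Subgroup G)) = 4) {K L : Subgroup G}
    (hK : K ∈ OmS Om (S : Subgroup G)) (hL : L ∈ OmS Om (S : Subgroup G)) (hne : K ≠ L) (hz : zz K = zz L)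
    (hT : ∀ v w, ∀ P : Pair Om (S : Subgroup G) K L v w, Tor (P.A hm.hyp S.isPGroup'))
    (hG : ∀ v w, ∀ P : Pair Om (S : Subgroup G) K L v w, ∀ s ∈ ES Om (S : Subgroup G), s ≠ 1 →
      LL Om (centralizer {s}) ≤ GS (P.A hm.hyp S.isPGroup') s) : Cor4 Om (S : Subgroup G) := by
  refine cor4_of_pairs hm S h4 hK hL hne hz (fun v w P => ⟨hT v w P, P.DF_eq_bot hm hcl h4 (hT v w P) (hG v w P)⟩) ?_
  intro v w P M hM hMK hML a ha ha1 b hb hb1
  exact P.commutator_inf_le hct hm.hyp S.isPGroup' hm.isType hM hMK hML ha hb (hm.fam_cent hb1)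

/-- **a good pair exists** if `|Om(S)| ≥ 5` -/
theorem exists_good {S : Subgroup G} (h : Hyp Om) (h4 : Nat.card (ES Om S) = 4)
    (h5 : 5 ≤ (OmS Om S).ncard) : ∃ K ∈ OmS Om S, ∃ L ∈ OmS Om S, K ≠ L ∧ zz K = zz L ∧ ∃ M₁ ∈ OmS Om S,
      ∃ M₂ ∈ OmS Om S, M₁ ≠ K ∧ M₁ ≠ L ∧ M₂ ≠ K ∧ M₂ ≠ L ∧ zz M₁ ≠ zz M₂ := by
  classical
  -- the image of `zz` on `Om(S)` has at most three elements
  have hE3 : ((ES Om S : Set G) \ {1}).ncard ≤ 3 := by
    have h1 : (ES Om S : Set G).ncard = 4 := h4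
    have h2 := Set.ncard_sdiff_singleton_add_one (s := (ES Om S : Set G)) (a := 1) (one_mem _) (Set.toFinite _)
    omega
  have himg : (zz '' OmS Om S).ncard ≤ 3 := by
    refine (Set.ncard_le_ncard ?_ (Set.toFinite _)).trans hE3
    rintro _ ⟨K, hK, rfl⟩
    exact ⟨zz_mem_ES hK, h.zz_ne hK.1⟩
  -- two members with different involutions
  have htwo : ∀ z : G, ∃ M ∈ OmS Om S, zz M ≠ z := by
    intro z
    by_contra hcon
    push Not at hcon
    have h1 : ES Om S ≤ zpowers z := by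
      rw [ES_le_iff]
      intro K hK
      rw [hcon K hK]
      exact mem_zpowers z
    obtain ⟨K, hK⟩ : (OmS Om S).Nonempty := by
      rw [Set.nonempty_iff_ne_empty]
      intro h0
      rw [h0, Set.ncard_empty] at h5
      omega
    have h2 : Nat.card (ES Om S) ≤ Nat.card (zpowers z) := card_le_of_le h1
    rw [Nat.card_zpowers, ← hcon K hK, h.orderOf_zz hK.1] at h2
    omega
  -- a pair over some `z`
  by_cases htri : ∃ K ∈ OmS Om S, ∃ L ∈ OmS Om S, ∃ M ∈ OmS Om S, K ≠ L ∧ K ≠ M ∧ L ≠ M ∧ zz K = zz L ∧ zz K = zz M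
  · obtain ⟨K, hK, L, hL, M, hM, h1, h2, h3, h4', h5'⟩ := htri
    obtain ⟨N, hN, hNz⟩ := htwo (zz K)
    refine ⟨K, hK, L, hL, h1, h4', M, hM, N, hN, h2.symm, h3.symm, ?_, ?_, ?_⟩
    · rintro rfl; exact hNz rfl
    · rintro rfl; exact hNz h4'.symm
    · rw [← h5']; exact hNz.symm
  · -- every fibre has at most two elements
    have hfib : ∀ z, {K ∈ OmS Om S | zz K = z}.ncard ≤ 2 := by
      intro z
      by_contra hcon
      push Not at hcon
      rw [Set.two_lt_ncard_iff (Set.toFinite _)] at hcon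
      obtain ⟨K, L, M, hK, hL, hM, h1, h2, h3⟩ := hcon
      exact htri ⟨K, hK.1, L, hL.1, M, hM.1, h1, h2, h3, hK.2.trans hL.2.symm, hK.2.trans hM.2.symm⟩
    -- a pair
    obtain ⟨K, hK, L, hL, hKL, hzz⟩ : ∃ K ∈ OmS Om S, ∃ L ∈ OmS Om S, K ≠ L ∧ zz K = zz L := by
      by_contra hcon
      push Not at hcon
      have h1 : Set.InjOn zz (OmS Om S) := by
        intro K hK L hL he
        by_contra hne
        exact hcon K hK L hL hne he
      have h2 := h1.ncard_image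
      omega
    -- the other members do not have all the same involution
    by_contra hcon
    push Not at hcon
    have hc := hcon K hK L hL hKL hzz
    obtain ⟨N, hN, hNz⟩ := htwo (zz K)
    have hNK : N ≠ K := by rintro rfl; exact hNz rfl
    have hNL : N ≠ L := by rintro rfl; exact hNz hzz.symm
    have hsub : OmS Om S ⊆ {K, L} ∪ {M ∈ OmS Om S | zz M = zz N} := by
      intro M hM
      by_cases h1 : M = K
      · exact Or.inl (Or.inl h1)
      by_cases h2 : M = L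
      · exact Or.inl (Or.inr h2)
      · exact Or.inr ⟨hM, (hc M hM N hN h1 h2 hNK hNL)⟩
    have h1 := (Set.ncard_le_ncard hsub (Set.toFinite _)).trans (Set.ncard_union_le _ _)
    have h2 : ({K, L} : Set (Subgroup G)).ncard ≤ 2 := by
      refine (Set.ncard_insert_le _ _).trans ?_
      rw [Set.ncard_singleton]
    have h3 := hfib (zz N)
    omega

/-- **`|E(S)| = 4`, `|Om(S)| ≥ 5`**, from (TOR) -/
theorem cor4_of_five_of_tor (hE : ExcTrip.{u}) (hm : MinS Om) (hct : CTStmt.{u}) (hcl : CloseE Om) (S : Sylow 2 G)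
    (h4 : Nat.card (ES Om (S : Subgroup G)) = 4) (h5 : 5 ≤ (OmS Om (S : Subgroup G)).ncard)
    (hT : ∀ K L v w, ∀ P : Pair Om (S : Subgroup G) K L v w, ∀ M₁ ∈ OmS Om (S : Subgroup G),
      ∀ M₂ ∈ OmS Om (S : Subgroup G), M₁ ≠ K → M₁ ≠ L → M₂ ≠ K → M₂ ≠ L → zz M₁ ≠ zz M₂ →
        Tor (P.A hm.hyp S.isPGroup')) : Cor4 Om (S : Subgroup G) := by
  obtain ⟨K, hK, L, hL, hKL, hzz, M₁, hM₁, M₂, hM₂, h1, h2, h3, h5', h6⟩ := exists_good hm.hyp h4 h5
  refine cor4_of_tor hm hct hcl S h4 hK hL hKL hzz (fun v w P => hT K L v w P M₁ hM₁ M₂ hM₂ h1 h2 h3 h5' h6) ?_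
  intro v w P s hs hs1
  by_cases h7 : zz M₁ = s
  · exact P.LL_le_of_witness hm.hyp S.isPGroup' hm.isType hE hs (hm.fam_cent hs1) h4.ge hM₂ h3 h5'
      (by rw [← h7]; exact h6.symm)
  · exact P.LL_le_of_witness hm.hyp S.isPGroup' hm.isType hE hs (hm.fam_cent hs1) h4.ge hM₁ h1 h2 h7

end Cfsg.Agent.Cit.FC
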