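import Cfsg.Agent.Nodes.ChartFrame
import Cfsg.Agent.Nodes.Ty

/-!
# Charts of rank one have no two commuting members

* `one_lt_card` : two commuting members of `Om` in a chart group: the rank is at least two.
-/

set_option autoImplicit false
set_option linter.unusedSectionVars false

namespace Cfsg.Agent.Cit.FC

open CoxeterSystem Cfsg.Agent.ChevalleyStructure.CoxeterGeom Cfsg.Agent.Tits.Roots Cfsg.Agent.Tits.Core
  Cfsg.Agent.Nodes.Chart Cfsg.Agent.Nodes.ChartFrame
open Cfsg.Agent.Cit.TypeDet (cm cm_symm OmIn)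

variable {G : Type*} [Group G] {Om : Set (Subgroup G)} {p : ℕ} {D : Subgroup G}

/-- two commuting members of `Om` in a chart group: the rank is at least two -/
theorem one_lt_card (c : Chart Om p D) {K J : Subgroup G} (hK : K ∈ Om) (hJ : J ∈ Om) (hKD : K ≤ D) (hJD : J ≤ D)
    (hc : cm K J) : 1 < Fintype.card c.I := by
  set F : Fin 2 → Subgroup G := ![K, J] with hF
  have hF2 : ∀ i, F i ∈ OmIn Om D := by
    intro i
    fin_cases i
    · exact ⟨hK, hKD⟩
    · exact ⟨hJ, hJD⟩
  have hc2 : ∀ i j, i ≠ j → cm (F i) (F j) := by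
    intro i j hij
    fin_cases i <;> fin_cases j
    · exact absurd rfl hij
    · exact hc
    · exact cm_symm hc
    · exact absurd rfl hij
  obtain ⟨s, d, F'⟩ := exists_frameIn (C := c) hF2 hc2
  have h0 := F'.orth 0 1 (by decide)
  have hr0 := (c.cls.root _ (F'.R 0)).ne_zero
  have hr1 := (c.cls.root _ (F'.R 1)).ne_zero
  by_contra hcard
  have hsub : Subsingleton c.I := Fintype.card_le_one_iff_subsingleton.1 (not_lt.1 hcard)
  obtain ⟨i, hi⟩ := Function.ne_iff.1 hr0
  have hx : ∀ x : c.I → ℤ, x = x i • (fun _ => (1 : ℤ)) := by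
    intro x
    funext j
    rw [Subsingleton.elim j i]
    simp
  have hi1 : s 1 i ≠ 0 := by
    intro h1
    apply hr1
    rw [hx (s 1), h1, zero_smul]
  have he : (fun _ : c.I => (1 : ℤ)) ≠ 0 := fun h1 => absurd (congrFun h1 i) one_ne_zero
  have hp := form_pos (cs := c.cs) (h := c.h) he
  rw [hx (s 0), hx (s 1), form_smul_left, form_smul_right] at h0
  rcases mul_eq_zero.1 h0 with h1 | h1
  · exact hi h1
  · rcases mul_eq_zero.1 h1 with h2 | h2
    · exact hi1 h2
    · exact hp.ne' h2

end Cfsg.Agent.Cit.FC
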