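import Cfsg.Agent.Cit.FC.Side
import Cfsg.Agent.Cit.FC.RankOne

/-!
# `Side` for charts; GEN with fixed points; the statement (P) in `C(b) / O(C(b))`

* `exists_sides` : the two sides of a member of a chart group;
* `pc_le_GB` : `a`, `b` commuting elements of order at most two centralising `K`, `pc K` not a member: `pc K ≤ GB {a, b, a b}`;
* `eq_one_of_inverts` : the abstract form of (P).
-/

set_option autoImplicit false
set_option linter.style.haveILetI false
set_option linter.unusedSectionVars false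

namespace Cfsg.Agent.Cit.FC

open Subgroup Cfsg Cfsg.Agent.Cit

section Chart

open CoxeterSystem Cfsg.Agent.ChevalleyStructure.CoxeterGeom Cfsg.Agent.Tits.Roots Cfsg.Agent.Tits.Core
  Cfsg.Agent.Tits.RootComb Cfsg.Agent.Tits.Exchange Cfsg.Agent.Nodes.Comb
  Cfsg.Agent.Nodes.BNOf Cfsg.Agent.Nodes.RGDLib Cfsg.Agent.Nodes.Chart Cfsg.Agent.Nodes.StabComb
  Cfsg.Agent.Nodes.Bruhat Cfsg.Agent.Nodes.LeviDec Cfsg.Agent.Nodes.ClsNorm Cfsg.Agent.Nodes.ChartLoc

section Cls

variable {I W Y : Type*} [Fintype I] [DecidableEq I] [Group W] [Fintype W] [Group Y] {M : CoxeterMatrix I}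
  {cs : CoxeterSystem M W} {A : I → I → ℤ} {h : IsCartan M A} {p : ℕ} {T : Subgroup Y} {n : I → Y}
  {X : (I → ℤ) → Subgroup Y} {R : Set (I → ℤ)} {Z : (I → ℤ) → Subgroup Y} {z : (I → ℤ) → Y}
  [Finite Y] [Fact p.Prime] (hp2 : p ≠ 2) (C : Cls cs h p T n X R Z z)

include hp2 C

/-- `z r` inverts `VV r` modulo `Z r` -/
theorem inverts_VV {r : I → ℤ} (hr : r ∈ R) : ∀ v ∈ VV cs h X r, z r * v * (z r)⁻¹ * v ∈ Z r := by
  refine Weights.inverts_of_fix (Weights.Sec.of_commutator (Z_le_VV C hr) (commutator_VV_le C hp2 hr))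
    (Weights.card_odd_of_le (odd_card_VV C hp2 r) (Z_le_VV C hr))
    (Weights.Act.of_normalizer (C.z_sq r hr) (z_mem_normalizer_VV C hr) ?_)
    (fun v hv hvz => mem_Z_of_commute C hp2 hr hv hvz)
  refine centralizer_le_normalizer _ ?_
  rw [mem_centralizer_iff]
  exact fun b hb => (C.z_cent r hr b hb).symm

/-- an element normalising `D`, `Z r` and commuting with `z r` normalises `VV r` -/
theorem mem_normalizer_VV {D : Subgroup Y} (hD : GG cs h T X = D) {r : I → ℤ} (hr : r ∈ R) {c : Y}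
    (hcD : c ∈ normalizer (D : Set Y)) (hcZ : c ∈ normalizer (Z r : Set Y)) (hcz : c * z r = z r * c) :
    c ∈ normalizer (VV cs h X r : Set Y) := by
  rw [mem_normalizer_iff_cj]
  refine eq_of_le_of_card_ge ?_ (by rw [card_cj])
  rintro _ ⟨v, hv, rfl⟩
  have hodd := odd_card_VV C hp2 r
  have hvD : v ∈ D := by rw [← hD]; exact VV_le_GG C r hv
  have hvZ : v ∈ normalizer (Z r : Set Y) := by
    refine centralizer_le_normalizer _ ?_
    rw [mem_centralizer_iff]
    exact fun b hb => VV_comm C hr hb hv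
  -- `g = c v c⁻¹`
  have hg1 : c * v * c⁻¹ ∈ GG cs h T X := by
    rw [hD]; exact (mem_normalizer_iff.1 hcD v).1 hvD
  have hg2 : c * v * c⁻¹ ∈ normalizer (Z r : Set Y) := mul_mem (mul_mem hcZ hvZ) (inv_mem hcZ)
  have h1 := comm_mem_VV C hr hg1 hg2
  obtain ⟨ζ, hζ⟩ : ∃ ζ, ζ = z r * v⁻¹ * (z r)⁻¹ * v⁻¹ := ⟨_, rfl⟩
  have hζZ : ζ ∈ Z r := by rw [hζ]; exact inverts_VV hp2 C hr _ (inv_mem hv)
  have h2 : v * z r * v⁻¹ * (z r)⁻¹ = ζ * (v * v) := by
    calc v * z r * v⁻¹ * (z r)⁻¹ = v * (z r * v⁻¹ * (z r)⁻¹ * v⁻¹) * v := by group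
      _ = v * ζ * v := by rw [hζ]
      _ = ζ * v * v := by rw [← VV_comm C hr hζZ hv]
      _ = ζ * (v * v) := by group
  have h3 : c * v * c⁻¹ * z r * (c * v * c⁻¹)⁻¹ * (z r)⁻¹ = (c * ζ * c⁻¹) * (c * (v * v) * c⁻¹) := by
    have h4 : c⁻¹ * z r = z r * c⁻¹ := by
      rw [inv_mul_eq_iff_eq_mul, ← mul_assoc, hcz, mul_inv_cancel_right]
    have h5 : c⁻¹ * (z r)⁻¹ = (z r)⁻¹ * c⁻¹ := by
      rw [← mul_inv_rev, ← mul_inv_rev, hcz]
    calc c * v * c⁻¹ * z r * (c * v * c⁻¹)⁻¹ * (z r)⁻¹ = c * v * (c⁻¹ * z r) * c * v⁻¹ * (c⁻¹ * (z r)⁻¹) := by group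
      _ = c * v * (z r * c⁻¹) * c * v⁻¹ * ((z r)⁻¹ * c⁻¹) := by rw [h4, h5]
      _ = c * (v * z r * v⁻¹ * (z r)⁻¹) * c⁻¹ := by group
      _ = c * (ζ * (v * v)) * c⁻¹ := by rw [h2]
      _ = _ := by group
  rw [h3] at h1
  have h4 : c * ζ * c⁻¹ ∈ VV cs h X r := Z_le_VV C hr ((mem_normalizer_iff.1 hcZ ζ).1 hζZ)
  have h5 : c * (v * v) * c⁻¹ ∈ VV cs h X r := by
    have h6 := mul_mem (inv_mem h4) h1
    rwa [inv_mul_cancel_left] at h6
  have h6 : v * v ∈ cj c⁻¹ (VV cs h X r) := by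
    rw [mem_cj, inv_inv]; exact h5
  have h7 := Weights.mem_of_sq_mem hodd hv h6
  rw [mem_cj, inv_inv] at h7
  exact h7

theorem side_root {D : Subgroup Y} (hD : GG cs h T X = D) {r : I → ℤ} (hr : r ∈ R) :
    Side p D (Z r ⊔ Z (-r)) (z r) (Z r) (VV cs h X r) where
  le := by rw [← hD]; exact VV_le_GG C r
  pg := isPGroup_VV C r
  ZV := Z_le_VV C hr
  ZK := le_sup_left
  zD := by rw [← hD]; exact sup_le_GG C hr (C.z_mem r hr)
  zK := by
    rw [mem_centralizer_iff]
    exact fun a ha => cls_commute_z C hr ha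
  sq := C.z_sq r hr
  cent := fun _ hc _ hv => VV_comm C hr hc hv
  fix := fun _ hv hvz => mem_Z_of_commute C hp2 hr hv hvz
  comm := commutator_VV_le C hp2 hr
  nor := fun c hcD hcK => by
    have h1 : c ∈ centralizer (Z r : Set Y) := centralizer_le (le_sup_left : Z r ≤ Z r ⊔ Z (-r)) hcK
    exact mem_normalizer_VV hp2 C hD hr hcD (centralizer_le_normalizer _ h1)
      (mem_centralizer_iff.1 hcK _ (C.z_mem r hr)).symm

/-- the chart group is generated by `VV r` and `VV (-r)` -/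
theorem le_VV_sup {L : Subgroup Y} (hL : GG cs h T X = L) (hq : IsQuasisimple L) {r : I → ℤ} (hr : r ∈ R)
    (hd : Dom A r) : L ≤ VV cs h X r ⊔ VV cs h X (-r) := by
  have hrn := neg_mem C hr
  set D0 := VV cs h X r ⊔ VV cs h X (-r) with hD0
  have hD0L : D0 ≤ L := by rw [← hL]; exact sup_le (VV_le_GG C r) (VV_le_GG C (-r))
  have hLJ : LJ cs h T X (orth cs h r) ≤ normalizer (D0 : Set Y) := by
    intro l hl
    have h1 : l ∈ L := by rw [← hL]; exact LJ_le_GG hl
    have h2 := LJ_le_normalizer C hr hd hl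
    have h3 := z_comm_LJ C hr hd hl
    have h4 := mem_normalizer_VV hp2 C hL hr (le_normalizer h1) h2.1 h3.symm
    have h5 := mem_normalizer_VV hp2 C hL hrn (le_normalizer h1) h2.2 (by rw [C.z_neg r hr]; exact h3.symm)
    rw [mem_normalizer_iff_cj, hD0, cj_sup, mem_normalizer_iff_cj.1 h4, mem_normalizer_iff_cj.1 h5]
  have hn : L ≤ normalizer (D0 : Set Y) := by
    rw [← hL]
    refine sup_le (T_le_LJ.trans hLJ) (RGD.Sup_le fun x hx => ?_)
    have hx' : IsRoot cs h x := hx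
    rcases lt_trichotomy (form cs h x r) 0 with h1 | h1 | h1
    · refine le_trans ?_ (le_normalizer (H := D0))
      refine le_trans ?_ (le_sup_right : VV cs h X (-r) ≤ D0)
      refine RGD.le_Sup (S := {y | IsRoot cs h y ∧ 0 < form cs h y (-r)}) ⟨hx', ?_⟩
      rw [form_neg_right]; omega
    · exact (X_le_LJ ((mem_RootsJ_orth_iff hd hx').2 h1)).trans hLJ
    · refine le_trans ?_ (le_normalizer (H := D0))
      refine le_trans ?_ (le_sup_left : VV cs h X r ≤ D0)
      exact RGD.le_Sup (S := {y | IsRoot cs h y ∧ 0 < form cs h y r}) ⟨hx', h1⟩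
  have hnorm : (D0.subgroupOf L).Normal := (normal_subgroupOf_iff_le_normalizer hD0L).2 hn
  rcases Lib.ComponentSolvable.quasisimple_normal_cases hq hnorm with h1 | h1
  · exact subgroupOf_eq_top.1 h1
  · exfalso
    have hZp : ∀ x, IsRoot cs h x → IsPGroup p ↥(X x) := fun x hx => C.rgd.pgrp' hx
    have h2 : Z (-r) ≤ centralizer (Z r : Set Y) := by
      intro d hd
      rw [mem_centralizer_iff]
      intro z' hz'
      have hzL : z' ∈ L := hD0L ((le_sup_left : VV cs h X r ≤ D0) (Z_le_VV C hr hz'))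
      have hdL : d ∈ L := hD0L ((le_sup_right : VV cs h X (-r) ≤ D0) (Z_le_VV C hrn hd))
      have h3 : (⟨z', hzL⟩ : L) ∈ center L :=
        h1 (mem_subgroupOf.2 ((le_sup_left : VV cs h X r ≤ D0) (Z_le_VV C hr hz')))
      have h4 := congrArg Subtype.val (mem_center_iff.1 h3 ⟨d, hdL⟩)
      exact h4.symm
    apply C.notp r hr
    have h3 : IsPGroup p ↥(Z (-r)) := (hZp (-r) (C.root _ hrn)).to_le (C.le _ hrn)
    exact ((hZp r (C.root r hr)).to_le (C.le r hr)).to_sup_of_normal_left' h3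
      (h2.trans (centralizer_le_normalizer' _))

end Cls

variable {G : Type*} [Group G] [Finite G] {Om : Set (Subgroup G)} {p : ℕ} {D : Subgroup G}

/-- (ZV) for a chart: `C_V(V) = Z`, `V = VV r` -/
def ZVC (c : Chart Om p D) : Prop :=
  ∀ r ∈ c.R, ∀ v ∈ VV c.cs c.h c.X r, (∀ w ∈ VV c.cs c.h c.X r, v * w = w * v) → v ∈ c.Z r

/-- **the two sides of a member of a chart group** -/
theorem exists_sides (h : Hyp Om) (c : Chart Om p D) (hq : IsQuasisimple D) (hDn : D ∉ Om) {K : Subgroup G}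
    (hK : K ∈ Om) (hKD : K ≤ D) : ∃ Z Z' V V' : Subgroup G, Side p D K (zz K) Z V ∧ Side p D K (zz K) Z' V' ∧
      K = Z ⊔ Z' ∧ D ≤ V ⊔ V' ∧ (ZVC c → (∀ v ∈ V, (∀ w ∈ V, v * w = w * v) → v ∈ Z) ∧
        (∀ v ∈ V', (∀ w ∈ V', v * w = w * v) → v ∈ Z')) := by
  haveI : Fact p.Prime := ⟨c.prime⟩
  obtain ⟨r, hr, g, hg, rfl⟩ := c.om_conj K hK hKD
  have hL : Cfsg.Agent.Nodes.Bruhat.GG c.cs c.h c.T c.X = D := by
    unfold Cfsg.Agent.Nodes.Bruhat.GG
    have h1 := c.gen
    unfold Cfsg.Agent.Nodes.RGDLib.G1 at h1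
    rw [h1]
    exact sup_eq_right.2 c.T_le
  obtain ⟨w, hw⟩ := exists_dominant (cs := c.cs) (h := c.h) r
  obtain ⟨k, hk⟩ := Cfsg.Agent.Nodes.Reps.exists_rp c.cs c.cls.rgd.nsys w
  have hkL : k ∈ GG c.cs c.h c.T c.X := NN_le_GG c.cls.rgd ⟨_, hk⟩
  rw [hL] at hkL
  have hs := c.cls.act r hr w
  obtain ⟨s, hs'⟩ : ∃ s, s = rep c.cs c.h w r := ⟨_, rfl⟩
  have e1 : c.Z s = Cit.cj k (c.Z r) := by rw [hs', ← GenChart.rcj_eq, conj_Z c.cls hk hr]
  have e2 : c.Z (-s) = Cit.cj k (c.Z (-r)) := by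
    rw [hs', ← GenChart.rcj_eq, conj_Z c.cls hk (neg_mem c.cls hr), map_neg]
  rw [← hs'] at hs hw
  have hsn := neg_mem c.cls hs
  obtain ⟨g', hg'⟩ : ∃ g', g' = g * k⁻¹ := ⟨_, rfl⟩
  have hg'D : g' ∈ D := by rw [hg']; exact mul_mem hg (inv_mem hkL)
  have e3 : Cfsg.Agent.Nodes.Reps.cj g (c.Z r ⊔ c.Z (-r)) = Cit.cj g' (c.Z s ⊔ c.Z (-s)) := by
    rw [GenChart.rcj_eq, e1, e2, ← cj_sup, ← cj_mul, hg', inv_mul_cancel_right]
  rw [e3]
  have hcjD : Cit.cj g' D = D := mem_normalizer_iff_cj.1 (le_normalizer hg'D)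
  have hzz : zz (Cit.cj g' (c.Z s ⊔ c.Z (-s))) = g' * c.z s * g'⁻¹ := by
    rw [h.zz_cj (c.om s hs), Cfsg.Agent.Nodes.StdConn.zz_eq h c hs (FrameOfFr.z_ne_one c hDn s hs)]
  have S1 := (side_root c.odd c.cls hL hs).cj g'
  have S2 := (side_root c.odd c.cls hL hsn).cj g'
  have e4 : c.Z (-s) ⊔ c.Z (-(-s)) = c.Z s ⊔ c.Z (-s) := by rw [neg_neg, sup_comm]
  rw [hcjD, ← hzz] at S1
  rw [hcjD, e4, c.cls.z_neg s hs, ← hzz] at S2
  have key : ∀ {Z V : Subgroup G}, (∀ v ∈ V, (∀ w ∈ V, v * w = w * v) → v ∈ Z) →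
      ∀ v ∈ Cit.cj g' V, (∀ w ∈ Cit.cj g' V, v * w = w * v) → v ∈ Cit.cj g' Z := by
    intro Z V hz v hv hvw
    rw [mem_cj] at hv ⊢
    refine hz _ hv fun w hw => ?_
    have h1 := hvw _ (conj_mem_cj (g := g') hw)
    calc g'⁻¹ * v * g' * w = g'⁻¹ * (v * (g' * w * g'⁻¹)) * g' := by group
      _ = g'⁻¹ * (g' * w * g'⁻¹ * v) * g' := by rw [h1]
      _ = w * (g'⁻¹ * v * g') := by group
  refine ⟨_, _, _, _, S1, S2, cj_sup _ _ _, ?_, fun hz => ⟨key (hz s hs), key (hz _ hsn)⟩⟩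
  have h9 := cj_mono g' (le_VV_sup c.odd c.cls hL hq hs hw)
  rwa [hcjD, cj_sup] at h9

end Chart

/-! ### GEN with fixed points -/

section GenB

variable {X : Type*} [Group X] [Finite X]

theorem Side.le_GB {p : ℕ} [Fact p.Prime] (hp2 : p ≠ 2) {D K Z V : Subgroup X} {z : X} (S : Side p D K z Z V)
    (hF : CT.FixP p D) (hO : pPrimeCore 2 X = ⊥) (hD : IsComponent D) {a b : X} (ha : a * a = 1) (hb : b * b = 1)
    (hab : a * b = b * a) (haD : a ∈ normalizer (D : Set X)) (hbD : b ∈ normalizer (D : Set X))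
    (haK : a ∈ centralizer (K : Set X)) (hbK : b ∈ centralizer (K : Set X)) : V ≤ CT.GB {a, b, a * b} := by
  have key : ∀ c, c * c = 1 → c ∈ normalizer (D : Set X) → c ∈ ({a, b, a * b} : Set X) →
      V ⊓ centralizer {c} ≤ CT.GB {a, b, a * b} := by
    rintro c hc hcD hcm v ⟨hv, hvc⟩
    refine CT.le_GB hcm ⟨hvc, mem_centralizer_iff.2 fun x hx => ?_⟩
    obtain ⟨k, hk⟩ := S.pg ⟨v, hv⟩
    have hvp : IsPGroup p (zpowers v) := S.pg.to_le (zpowers_le.2 hv)
    exact (hF.comm hc hcD hx (CoreTwoB.XX_le_normalizer hO hc hD hx) (S.le hv)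
      (mem_centralizer_singleton_iff.1 hvc) hvp).symm
  have hab2 : a * b * (a * b) = 1 := by
    calc a * b * (a * b) = a * (b * a) * b := by group
      _ = a * (a * b) * b := by rw [hab]
      _ = (a * a) * (b * b) := by group
      _ = 1 := by rw [ha, hb, mul_one]
  exact Lib.KleinGen.le_of_klein V _ (GenChart.odd_of_isPGroup Fact.out hp2 S.pg) a b ha hb hab
    (fun v hv => (mem_normalizer_iff.1 (S.nor a haD haK) v).1 hv)
    (fun v hv => (mem_normalizer_iff.1 (S.nor b hbD hbK) v).1 hv)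
    (key a ha haD (by simp)) (key b hb hbD (by simp)) (key _ hab2 (mul_mem haD hbD) (by simp))

theorem mem_normalizer_pc {Om : Set (Subgroup X)} (h : Hyp Om) {K : Subgroup X} {a : X}
    (haK : a ∈ centralizer (K : Set X)) : a ∈ normalizer (pc Om K : Set X) := by
  rw [mem_normalizer_iff_cj, cj_pc h.conj, mem_normalizer_iff_cj.1 (centralizer_le_normalizer _ haK)]

theorem isComponent_pc {Om : Set (Subgroup X)} (h : Hyp Om) (hp : HasPieces Om) {K : Subgroup X} (hK : K ∈ Om)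
    (hne : pc Om K ∉ Om) : IsComponent (pc Om K) :=
  ⟨CoresH.pc_isSubnormal h hK, ((hp.piece h hK).quasisimple hne).1⟩

end GenB

section

universe u

variable {X : Type u} [Group X] [Finite X] {Om : Set (Subgroup X)}

/-- **GEN, with fixed points** -/
theorem pc_le_GB (hE : GenChart.ExcTrip.{u}) (hfix : CoresG.FixStmt.{u}) (hodd : CoresG.OddStmt.{u}) (h : Hyp Om)
    (ty : ∀ K ∈ Om, Ty K) (hp : HasPieces Om) (hO : pPrimeCore 2 X = ⊥) {K : Subgroup X} (hK : K ∈ Om)
    (hne : pc Om K ∉ Om) {a b : X} (ha : a * a = 1) (hb : b * b = 1) (hab : a * b = b * a)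
    (haK : a ∈ centralizer (K : Set X)) (hbK : b ∈ centralizer (K : Set X)) :
    pc Om K ≤ CT.GB {a, b, a * b} := by
  have hD := isComponent_pc h hp hK hne
  have hev := hodd.evQ X
  have haD := mem_normalizer_pc h haK
  have hbD := mem_normalizer_pc h hbK
  have htrip : GenChart.Trip (pc Om K) K → pc Om K ≤ CT.GB {a, b, a * b} := by
    intro ht
    have h1 := GenChart.gen_of_trip (h.zz_mem hK) ht a b ha hb hab haD hbD haK hbK
    by_cases c1 : pc Om K ≤ centralizer {a}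
    · exact CT.le_GB_of_centralizes hev hD (by simp) c1
    by_cases c2 : pc Om K ≤ centralizer {b}
    · exact CT.le_GB_of_centralizes hev hD (by simp) c2
    have c3 := (ht a ha haD haK).resolve_left c1
    have c4 := (ht b hb hbD hbK).resolve_left c2
    refine CT.le_GB_of_centralizes hev hD (b := a * b) (by simp) fun d hd => ?_
    have e1 := mem_centralizer_singleton_iff.1 (c3 hd)
    have e2 := mem_centralizer_singleton_iff.1 (c4 hd)
    rw [mem_centralizer_singleton_iff]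
    have hzz := h.zz_mul hK
    have hzb : zz K * b = b * zz K := mem_centralizer_iff.1 hbK _ (h.zz_mem hK)
    have e3 : a * b = (a * zz K) * (b * zz K) := by
      calc a * b = a * (zz K * zz K) * b := by rw [hzz, mul_one]
        _ = a * zz K * (zz K * b) := by group
        _ = a * zz K * (b * zz K) := by rw [hzb]
    rw [e3, ← mul_assoc, e1, mul_assoc, e2, ← mul_assoc]
  rcases hp.piece h hK with hm | ⟨_, qs, two, p, c, _⟩ | ⟨qs, two, p, prime, odd, iso, ne, zzc, three⟩ |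
    ⟨qs, two, iso, ne, mem⟩
  · exact absurd hm hne
  · haveI : Fact p.Prime := ⟨c.prime⟩
    obtain ⟨Z, Z', V, V', S1, S2, -, h5, -⟩ := exists_sides h c qs hne hK le_pc
    have hF := hfix X Om h hO p (pc Om K) hD ⟨c⟩
    exact h5.trans (sup_le (S1.le_GB c.odd hF hO hD ha hb hab haD hbD haK hbK)
      (S2.le_GB c.odd hF hO hD ha hb hab haD hbD haK hbK))
  · exact htrip (hE X Om _ K h ty hp.core qs two (Or.inl ⟨p, prime, odd, iso⟩) hK le_pc)
  · exact htrip (hE X Om _ K h ty hp.core qs two (Or.inr iso) hK le_pc)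

/-- (ZV) for the charts of the pieces, `τ ≠ C 1` -/
def ZVStmt : Prop := ∀ (X : Type u) [Group X] [Finite X] (Om : Set (Subgroup X)), Hyp Om → ∀ (p : ℕ) (D : Subgroup X)
  (c : Nodes.Chart.Chart Om p D) (τ : Nodes.Chart.Ty), c.IsTy τ → KindOk τ → τ ≠ .C 1 → ZVC c

/-- **the abstract form of (P)** -/
theorem eq_one_of_inverts (hE : GenChart.ExcTrip.{u}) (hzv : ZVStmt.{u}) (hfix : CoresG.FixStmt.{u})
    (hodd : CoresG.OddStmt.{u}) (h : Hyp Om) (ty : ∀ K ∈ Om, Ty K) (hp : HasPieces Om) (hO : pPrimeCore 2 X = ⊥)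
    {K J : Subgroup X} (hK : K ∈ Om) (hJ : J ∈ Om) (hJK : J ≤ centralizer (K : Set X)) (hJz : zz J = zz K)
    {R : Subgroup X} (hR : ¬ 2 ∣ Nat.card R) {a : X} (ha : a * a = 1)
    (haK : a ∈ centralizer (K : Set X)) (hRn : centralizer {a} ≤ normalizer (R : Set X))
    (h1 : ∀ r ∈ R, r * (zz K * a) = zz K * a * r → r * a * r⁻¹ * a⁻¹ ∈ XX (zz K * a))
    {t : X} (ht : t ∈ R) (htz : t ∈ XX (zz K)) (hat : a * t * a⁻¹ = t⁻¹) : t = 1 := by
  have hev := hodd.evQ X
  have hzz := h.zz_mul hK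
  refine CoreTools.eq_one_of_comp hO hzz htz fun L hL => ?_
  by_cases hLz : L ≤ centralizer {zz K}
  · exact CoreTools.XX_le_centralizer_of_cent hev hL hLz htz
  have hLpc := CoresH.component_eq_pc h ty hp hL hK hLz
  subst hLpc
  have hne : pc Om K ∉ Om := by
    intro hmem
    apply hLz
    rw [← h.eq_of_le hK hmem le_pc]
    intro k hk
    rw [mem_centralizer_singleton_iff]
    exact h.comm_zz hK (le_normalizer hk)
  have haD := mem_normalizer_pc h haK
  have hzD : zz K ∈ normalizer (pc Om K : Set X) := le_normalizer (le_pc (h.zz_mem hK))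
  have htD : t ∈ normalizer (pc Om K : Set X) := CoreTwoB.XX_le_normalizer hO hzz hL htz
  have hza : zz K * a = a * zz K := mem_centralizer_iff.1 haK _ (h.zz_mem hK)
  have htz' : t * zz K = zz K * t := CT.comm_of_mem_XX htz
  have htrip : GenChart.Trip (pc Om K) K → t ∈ centralizer (pc Om K : Set X) := by
    intro htr
    rw [mem_centralizer_iff]
    rcases htr a ha haD haK with c1 | c1
    · exact comm_of_inverts hR ht htD c1 hat
    · refine comm_of_inverts hR ht htD c1 ?_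
      calc a * zz K * t * (a * zz K)⁻¹ = a * (zz K * t) * (zz K)⁻¹ * a⁻¹ := by group
        _ = a * (t * zz K) * (zz K)⁻¹ * a⁻¹ := by rw [htz']
        _ = a * t * a⁻¹ := by group
        _ = t⁻¹ := hat
  rcases hp.piece h hK with hm | ⟨_, qs, two, p, c, τ, kind, ok, small, sl, zx⟩ |
    ⟨qs, two, p, prime, odd, iso, ne, zzc, three⟩ | ⟨qs, two, iso, ne, mem⟩
  · exact absurd hm hne
  · haveI : Fact p.Prime := ⟨c.prime⟩
    obtain ⟨Z, Z', V, V', S1, S2, hKe, h5, hz⟩ := exists_sides h c qs hne hK le_pc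
    have hJD : J ≤ pc Om K := by
      by_cases h6 : pc Om J = pc Om K
      · rw [← h6]; exact le_pc
      · exfalso
        apply hLz
        intro x hx
        rw [mem_centralizer_singleton_iff, ← hJz]
        exact (mem_centralizer_iff.1 (pc_comm hJ hK h6 (le_pc (h.zz_mem hJ))) x hx)
    have hcard := one_lt_card c hK hJ le_pc hJD (TypeDet.cm_symm (TypeDet.cm_iff_le_centralizer.2 hJK))
    have hτ1 : τ ≠ .C 1 := by
      rintro rfl
      rw [kind.card] at hcard
      exact absurd hcard (by decide)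
    obtain ⟨hz1, hz2⟩ := hz (hzv X Om h p _ c τ kind ok hτ1)
    have hF := hfix X Om h hO p (pc Om K) hL ⟨c⟩
    -- `t` centralises `K`
    have key : ∀ {Z V : Subgroup X}, Side p (pc Om K) K (zz K) Z V → Z ≤ centralizer {t} := by
      intro Z V S v hv
      have hvV := S.ZV hv
      have hvp : IsPGroup p (zpowers v) := S.pg.to_le (zpowers_le.2 hvV)
      have hvz : v * zz K = zz K * v := mem_centralizer_iff.1 S.zK v (S.ZK hv)
      rw [mem_centralizer_singleton_iff]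
      exact hF.comm hzz hzD htz htD (S.le hvV) hvz hvp
    have htK : t ∈ centralizer (K : Set X) := by
      have h6 : K ≤ centralizer {t} := by
        rw [hKe]; exact sup_le (key S1) (key S2)
      rw [mem_centralizer_iff]
      exact fun k hk => mem_centralizer_singleton_iff.1 (h6 hk)
    have h6 : pc Om K ≤ centralizer {t} := by
      refine h5.trans (sup_le ?_ ?_)
      · intro v hv
        rw [mem_centralizer_singleton_iff]
        exact S1.comm_of c.odd hz1 hF (h.zz_mem hK) hR ha haD haK hRn h1 ht htD htK hat v hv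
      · intro v hv
        rw [mem_centralizer_singleton_iff]
        exact S2.comm_of c.odd hz2 hF (h.zz_mem hK) hR ha haD haK hRn h1 ht htD htK hat v hv
    rw [mem_centralizer_iff]
    exact fun k hk => mem_centralizer_singleton_iff.1 (h6 hk)
  · exact htrip (hE X Om _ K h ty hp.core qs two (Or.inl ⟨p, prime, odd, iso⟩) hK le_pc)
  · exact htrip (hE X Om _ K h ty hp.core qs two (Or.inr iso) hK le_pc)

end

end Cfsg.Agent.Cit.FC
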