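import Cfsg.Agent.Nodes.CenVVTy
import Cfsg.Agent.Cit.FC.SideChart

/-!
# (ZV) for the charts of the pieces

`zvStmt : ZVStmt`, from `Nodes.CenVV.mem_Z_of_cent` (helper744).
-/

set_option autoImplicit false

namespace Cfsg.Agent.Cit.FC

universe u

theorem zvStmt : ZVStmt.{u} := by
  intro X _ _ Om hyp p D c τ hτ hok h1 r hr v hv hc
  exact Nodes.CenVV.mem_Z_of_cent hyp c hτ hok h1 hr hv hc

end Cfsg.Agent.Cit.FC
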