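import Cfsg.Agent.Cit.FC.TorFour
import Cfsg.Agent.Cit.FC.Out
import Cfsg.Agent.Cit.FC.ZV
import Cfsg.Agent.Cit.Four.Skel

/-!
# Cores for `|E| = |Om(S)| = 4`: the statement `Four.Cores`

* `Pair.LL_le_of_kab` : the fact `KAB` in `C(s) / O(C(s))` gives the generation of `C(s)` by `P.A`, `s ≠ zz K`;
* `KABStmt` : the fact `KAB` for `K₃`, `K₄` in `C(zz K₁) / O(C(zz K₁))`, in terms of the local type;
* `cores` : **`Four.Cores`**, from `KABStmt` and the general statements.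
-/

set_option autoImplicit false
set_option linter.style.haveILetI false
set_option linter.unusedSectionVars false

namespace Cfsg.Agent.Cit.FC

open Subgroup Cfsg Cfsg.Agent.Cit SubCent UseT TorFunctor CoresG CovES GenChart Four

universe u

namespace Pair

variable {G : Type u} [Group G] [Finite G] {Om : Set (Subgroup G)} {S K L : Subgroup G} {v w s : G}

/-- **(G)** at `s ≠ zz K` from `KAB` -/
theorem LL_le_of_kab (P : Pair Om S K L v w) (h : Hyp Om) (hS : IsPGroup 2 S) (ty : ∀ K ∈ Om, IsType K)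
    (hs : s ∈ ES Om S) (hKs : zz K ≠ s)
    (hkab : KAB (fam Om (centralizer {s})) (tr (centralizer {s}) K) (tr (centralizer {s}) L)) :
    LL Om (centralizer {s}) ≤ GS (P.A h hS) s := by
  refine P.LL_le_of_block h hS ty hs hKs (hkab.kb.imp id fun hkb => ?_)
  have hKE := zz_mem_ES P.hK
  have hKc := CoresG.mem_cov h hS P.hK hs
  have hLc := CoresG.mem_cov h hS P.hL hs
  have hvS : v ∈ centralizer ({s} : Set G) := DD_le_cent h hS hs (inf_le_DD P.hK P.v_mem)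
  have hwS : w ∈ centralizer ({s} : Set G) := DD_le_cent h hS hs (inf_le_DD P.hL P.w_mem)
  have hzS : zz K ∈ centralizer ({s} : Set G) := ES_le_cent h hS hs hKE
  obtain ⟨n, hn⟩ := hS ⟨v, P.v_mem.2⟩
  obtain ⟨m, hm⟩ := hS ⟨w, P.w_mem.2⟩
  have hn' : v ^ 2 ^ n = 1 := congrArg Subtype.val hn
  have hm' : w ^ 2 ^ m = 1 := congrArg Subtype.val hm
  have hv : qm (centralizer {s}) ⟨v, hvS⟩ ∈ tr (centralizer {s}) K :=
    mem_tr ty hKc (x := ⟨v, hvS⟩) P.v_mem.1 (a := n) (Subtype.ext hn')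
  have hw : qm (centralizer {s}) ⟨w, hwS⟩ ∈ tr (centralizer {s}) L :=
    mem_tr ty hLc (x := ⟨w, hwS⟩) P.w_mem.1 (a := m) (Subtype.ext hm')
  have hzz : zz (tr (centralizer {s}) K) = qm (centralizer {s}) ⟨zz K, hzS⟩ := zz_tr h ty hKc
  have hvv : qm (centralizer {s}) ⟨v, hvS⟩ * qm (centralizer {s}) ⟨v, hvS⟩ = zz (tr (centralizer {s}) K) := by
    rw [hzz, ← map_mul]
    congr 1
    exact Subtype.ext P.vv
  have hww : qm (centralizer {s}) ⟨w, hwS⟩ * qm (centralizer {s}) ⟨w, hwS⟩ = zz (tr (centralizer {s}) K) := by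
    rw [hzz, ← map_mul]
    congr 1
    exact Subtype.ext P.ww
  have hwhole := hkb _ hv _ hw hvv hww
  obtain ⟨R, hR⟩ : ∃ R : Subgroup (HQ (centralizer ({s} : Set G))), R =
    ⨆ (b : centralizer ({s} : Set G)) (_ : (b : G) ∈ P.A h hS ∧ (b : G) ≠ 1 ∧ (b : G) ≠ s),
          centralizer {qm (centralizer {s}) b} := ⟨_, rfl⟩
  rw [← hR]
  have key : ∀ b : centralizer ({s} : Set G), (b : G) ∈ P.A h hS → (b : G) ≠ 1 → (b : G) ≠ s →
      centralizer {qm (centralizer {s}) b} ≤ R := by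
    intro b h1 h2 h3
    rw [hR]
    exact le_iSup₂ (f := fun (b : centralizer ({s} : Set G))
      (_ : (b : G) ∈ P.A h hS ∧ (b : G) ≠ 1 ∧ (b : G) ≠ s) => centralizer {qm (centralizer {s}) b}) b ⟨h1, h2, h3⟩
  clear hR
  have hf := P.f_mem_A h hS
  have hzA := P.ES_le_A h hS hKE
  have hKK : zz K * zz K = 1 := h.zz_mul P.hK.1
  have hf1 : ∀ e ∈ ES Om S, v * w ≠ e := fun e he h1 => P.notMem h hS (by rw [h1]; exact he)
  have hfz1 : ∀ e ∈ ES Om S, v * w * zz K ≠ e := by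
    intro e he h1
    refine P.notMem h hS ?_
    have h2 := mul_mem he hKE
    rwa [← h1, mul_assoc, hKK, mul_one] at h2
  have k1 : centralizer {zz (tr (centralizer {s}) K)} ≤ R := by
    rw [hzz]
    exact key ⟨zz K, hzS⟩ hzA (h.zz_ne P.hK.1) hKs
  have k2 : centralizer {qm (centralizer {s}) ⟨v, hvS⟩ * qm (centralizer {s}) ⟨w, hwS⟩} ≤ R := by
    have e1 : qm (centralizer {s}) ⟨v, hvS⟩ * qm (centralizer {s}) ⟨w, hwS⟩ =
        qm (centralizer {s}) ⟨v * w, mul_mem hvS hwS⟩ := by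
      rw [← map_mul]
      rfl
    rw [e1]
    exact key ⟨v * w, _⟩ hf (hf1 1 (one_mem _)) (hf1 s hs)
  have k3 : centralizer {qm (centralizer {s}) ⟨v, hvS⟩ * qm (centralizer {s}) ⟨w, hwS⟩ *
      zz (tr (centralizer {s}) K)} ≤ R := by
    have e1 : qm (centralizer {s}) ⟨v, hvS⟩ * qm (centralizer {s}) ⟨w, hwS⟩ * zz (tr (centralizer {s}) K) =
        qm (centralizer {s}) ⟨v * w * zz K, mul_mem (mul_mem hvS hwS) hzS⟩ := by
      rw [hzz, ← map_mul, ← map_mul]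
      rfl
    rw [e1]
    exact key ⟨v * w * zz K, _⟩ (mul_mem hf hzA) (hfz1 1 (one_mem _)) (hfz1 s hs)
  refine hwhole.trans (CT.GB_le_iff.2 ?_)
  rintro b (rfl | rfl | rfl)
  · exact inf_le_left.trans k1
  · exact inf_le_left.trans k2
  · exact inf_le_left.trans k3

end Pair

/-- `KAB` for `K₃`, `K₄` in `C(zz K₁) / O(C(zz K₁))` -/
def KABStmt : Prop :=
  ∀ (G : Type u) [Group G] [Finite G] (Om : Set (Subgroup G)), MinS Om →
    ∀ (S : Sylow 2 G) (K₁ K₂ K₃ K₄ : Subgroup G), TwoTwo Om (S : Subgroup G) K₁ K₂ K₃ K₄ →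
    (Sing Om (S : Subgroup G) (zz K₁) ∨ Block Om (zz K₁) K₃ K₄) →
    KAB (fam Om (centralizer {zz K₁})) (tr (centralizer {zz K₁}) K₃) (tr (centralizer {zz K₁}) K₄)

/-- pairs exist -/
theorem exists_pair {G : Type u} [Group G] [Finite G] {Om : Set (Subgroup G)} (h : Hyp Om) {S K L : Subgroup G}
    (hS : IsPGroup 2 S) (hK : K ∈ OmS Om S) (hL : L ∈ OmS Om S) (hne : K ≠ L) (hz : zz K = zz L) :
    ∃ v w, Pair Om S K L v w := by
  obtain ⟨c, v, n, hq⟩ := h.exists_gq hK.1 (syl_inf hS hK)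
  obtain ⟨d, w, m, hr⟩ := h.exists_gq hL.1 (syl_inf hS hL)
  exact ⟨v, w, hK, hL, hne, hz, hq.v_mem, hr.v_mem, hq.v_sq, by rw [hr.v_sq, hz]⟩

/-- **CORES for `n = 4`, `τ = 2`** -/
theorem cores (hE : GenChart.ExcTrip.{u}) (hfix : FixStmt.{u}) (hodd : OddStmt.{u}) (hct : CTStmt.{u})
    (hkab : KABStmt.{u}) : Four.Cores.{u} := by
  intro G _ _ Om m hcl S K₁ K₂ K₃ K₄ t h1 h3 _
  have h := m.hyp
  have hS := S.isPGroup'
  have h4 := t.card_ES h hS
  have ty := m.isType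
  have kab1 := hkab G Om m S K₁ K₂ K₃ K₄ t h1
  have kab3 := hkab G Om m S K₃ K₄ K₁ K₂ t.swap h3
  obtain ⟨v₁, w₁, P₁⟩ := exists_pair h hS t.mem1 t.mem2 t.ne12 t.z12
  obtain ⟨v₂, w₂, T⟩ := P₁.exists_pair2 h hS
  have hK₁K : K₁ ≠ K₃ := fun e => t.ne (by rw [e])
  have hK₁L : K₁ ≠ K₄ := fun e => t.ne (by rw [e, t.z34])
  refine cor4_of_tor m hct hcl S h4 t.mem3 t.mem4 t.ne34 t.z34 (fun v w P => ?_) fun v w P s hs hs1 => ?_
  · exact P.tor_four h hE zvStmt hfix hodd hct ty h4 (fun b _ hb1 => m.fam_cent hb1) T t.ne kab1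
      (T.fst.LL_le_of_kab h hS ty (zz_mem_ES t.mem3) t.ne kab3)
  · by_cases hz : zz K₁ = s
    · subst hz
      exact P.LL_le_of_kab h hS ty hs (Ne.symm t.ne) kab1
    · exact P.LL_le_of_witness h hS ty hE hs (m.fam_cent hs1) h4.ge t.mem1 hK₁K hK₁L hz

end Cfsg.Agent.Cit.FC
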