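import Cfsg.Agent.Cit.FC.Pair
import Cfsg.Agent.Cit.GenGood
import Cfsg.Agent.Cit.Four.Defs

/-!
# Cores for `|E| = 4`: the generation of `C(s)`

`P : Pair Om S K L v w`, `A = P.A`, `s ∈ E`, `s ≠ 1`, `GS A s = ⟨O(C(s)), C(s) ⊓ C(b) : b ∈ A, b ≠ 1, s⟩`.

* `Pair.LL_le_of_witness` : `LL Om C(s) ≤ GS A s` if there is `M ∈ Om(S)`, `M ≠ K, L`, `zz M ≠ s`;
* `Pair.LL_le_of_block` : the same if `zz K ≠ s` and the piece of `K` in `C(s) / O(C(s))` is a member or
  generated by the centralisers of `zz K`, `v w`, `zz K v w`.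
-/

set_option autoImplicit false
set_option linter.style.haveILetI false
set_option linter.unusedSectionVars false

namespace Cfsg.Agent.Cit.FC

open Subgroup Cfsg Cfsg.Agent.Cit SubCent UseT TorFunctor CoresG CovES GenChart
open scoped commutatorElement

universe u

section

variable {G : Type u} [Group G]

/-- the subgroup generated by `O(C(s))` and the `C(s) ⊓ C(b)`, `b ∈ A`, `b ≠ 1, s` -/
def GS (A : Subgroup G) (s : G) : Subgroup G :=
  XX s ⊔ ⨆ (b : G) (_ : b ∈ A ∧ b ≠ 1 ∧ b ≠ s), centralizer {s} ⊓ centralizer {b}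

theorem XX_le_GS {A : Subgroup G} {s : G} : XX s ≤ GS A s := le_sup_left

theorem le_GS {A : Subgroup G} {s b : G} (hb : b ∈ A) (hb1 : b ≠ 1) (hbs : b ≠ s) :
    centralizer {s} ⊓ centralizer {b} ≤ GS A s :=
  le_sup_of_le_right (le_iSup₂ (f := fun (b : G) (_ : b ∈ A ∧ b ≠ 1 ∧ b ≠ s) => centralizer {s} ⊓ centralizer {b}) b
    ⟨hb, hb1, hbs⟩)

variable [Finite G] {Om : Set (Subgroup G)} {S : Subgroup G}

/-- the image of `GS A s` in `C(s) / O(C(s))` contains the centralisers of the images of `b ∈ A`, `b ≠ 1, s` -/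
theorem cent_le_map {A : Subgroup G} {s b : G} (hA2 : ∀ a ∈ A, a * a = 1) (hb : b ∈ A) (hb1 : b ≠ 1) (hbs : b ≠ s)
    (hbH : b ∈ centralizer ({s} : Set G)) :
    centralizer {qm (centralizer {s}) ⟨b, hbH⟩} ≤ ((GS A s).subgroupOf (centralizer {s})).map (qm (centralizer {s})) := by
  have hbb : (⟨b, hbH⟩ : centralizer ({s} : Set G)) * ⟨b, hbH⟩ = 1 := Subtype.ext (hA2 b hb)
  rw [← centralizer_map (qm_surjective _) (not_dvd_ker _) hbb]
  rintro _ ⟨c, hc, rfl⟩
  refine ⟨c, ?_, rfl⟩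
  rw [SetLike.mem_coe, mem_subgroupOf]
  exact le_GS hb hb1 hbs ⟨c.2, mem_centralizer_singleton_iff.2
    (congrArg Subtype.val (mem_centralizer_singleton_iff.1 hc))⟩

/-- `LL Om H ≤ R` if `O(H) ≤ R` and `R` covers the members of `H / O(H)` -/
theorem LL_le_of {H R : Subgroup G} (hO : OO H ≤ R)
    (hm : ∀ J ∈ fam Om H, J ≤ (R.subgroupOf H).map (qm H)) : LL Om H ≤ R := by
  rintro _ ⟨x, hx, rfl⟩
  obtain ⟨r, hr, hrx⟩ := (sSup_le hm) hx
  have h1 : qm H (x * r⁻¹) = 1 := by rw [map_mul, map_inv, hrx, mul_inv_cancel]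
  have h2 := (mem_ker_iff H).1 h1
  have h3 : (x : G) = ((x * r⁻¹ : H) : G) * (r : G) := by simp
  change (x : G) ∈ R
  rw [h3]
  exact R.mul_mem (hO h2) hr

/-- an element of `C(s)` whose image centralises `D` -/
theorem le_map_of_cent {A : Subgroup G} {s b : G} (hA2 : ∀ a ∈ A, a * a = 1) (hb : b ∈ A) (hb1 : b ≠ 1)
    (hbs : b ≠ s) (hbH : b ∈ centralizer ({s} : Set G)) {D : Subgroup (HQ (centralizer ({s} : Set G)))}
    (hD : qm (centralizer {s}) ⟨b, hbH⟩ ∈ centralizer (D : Set (HQ (centralizer ({s} : Set G))))) :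
    D ≤ ((GS A s).subgroupOf (centralizer {s})).map (qm (centralizer {s})) := by
  refine le_trans ?_ (cent_le_map hA2 hb hb1 hbs hbH)
  intro d hd
  rw [mem_centralizer_singleton_iff]
  exact mem_centralizer_iff.1 hD d hd

end

namespace Pair

variable {G : Type u} [Group G] [Finite G] {Om : Set (Subgroup G)} {S K L M : Subgroup G} {v w s : G}
variable (P : Pair Om S K L v w) (h : Hyp Om) (hS : IsPGroup 2 S) (ty : ∀ K ∈ Om, IsType K)
include ty

omit ty in
/-- `A ≤ C(s)` for `s ∈ E` -/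
theorem A_le_cent_ES (hs : s ∈ ES Om S) : P.A h hS ≤ centralizer {s} := (P.A_le_DD h hS).trans (DD_le_cent h hS hs)

/-- `zz M` centralises all pieces of `C(s) / O(C(s))` not containing the trace of `M` -/
theorem le_of_ne (hs : s ∈ ES Om S) (hM : M ∈ OmS Om S) (hMs : zz M ≠ s) {J : Subgroup (HQ (centralizer ({s} : Set G)))}
    (hJ : J ∈ fam Om (centralizer {s})) (hne : pc (fam Om (centralizer {s})) (tr (centralizer {s}) M) ≠
      pc (fam Om (centralizer {s})) J) :
    J ≤ ((GS (P.A h hS) s).subgroupOf (centralizer {s})).map (qm (centralizer {s})) := by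
  have hMc := CoresG.mem_cov h hS hM hs
  have hzE : zz M ∈ ES Om S := zz_mem_ES hM
  refine le_map_of_cent (P.A_sq h hS) (P.ES_le_A h hS hzE) (h.zz_ne hM.1) hMs (ES_le_cent h hS hs hzE) ?_
  have h1 := le_pc.trans (pc_comm (tr_mem hMc) hJ hne)
  have h2 := h1.trans (centralizer_le le_pc)
  apply h2
  have h3 := (hyp_fam h ty (centralizer {s})).zz_mem (tr_mem hMc)
  rwa [zz_tr h ty hMc] at h3

/-- **(G)** with a witness -/
theorem LL_le_of_witness (hE : ExcTrip.{u}) (hs : s ∈ ES Om S) (hp : HasPieces (fam Om (centralizer {s})))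
    (h4 : 4 ≤ Nat.card (ES Om S)) (hM : M ∈ OmS Om S) (hMK : M ≠ K) (hML : M ≠ L) (hMs : zz M ≠ s) :
    LL Om (centralizer {s}) ≤ GS (P.A h hS) s := by
  set H := centralizer ({s} : Set G) with hH
  refine LL_le_of XX_le_GS fun J hJ => ?_
  by_cases hne : pc (fam Om H) (tr H M) = pc (fam Om H) J
  swap
  · exact P.le_of_ne h hS ty hs hM hMs hJ hne
  -- `J` is in the piece of `M`
  have hAH := P.A_le_cent_ES h hS hs
  have hcard := P.card_A h hS
  have hA2 := P.A_sq h hS
  have hAc := P.A_comm h hS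
  -- two elements of `A` independent modulo `s`
  obtain ⟨a, ha, ha1, has⟩ := Tor.exists_ne (B := P.A h hS) (by omega) (ES_sq h hS hs)
  obtain ⟨b, hb, hb1, hbs, hba, hbas⟩ : ∃ b ∈ P.A h hS, b ≠ 1 ∧ b ≠ s ∧ b ≠ a ∧ b ≠ a * s := by
    by_contra hcon
    push Not at hcon
    have hss := ES_sq h hS hs
    have hsub : (P.A h hS : Set G) ⊆ {1, s, a, a * s} := by
      intro x hx
      by_cases h1 : x = 1
      · exact Or.inl h1
      by_cases h2 : x = s
      · exact Or.inr (Or.inl h2)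
      by_cases h3 : x = a
      · exact Or.inr (Or.inr (Or.inl h3))
      · exact Or.inr (Or.inr (Or.inr (hcon x hx h1 h2 h3)))
    have h1 := Set.ncard_le_ncard hsub (Set.toFinite _)
    have h2 : (P.A h hS : Set G).ncard = Nat.card (P.A h hS) := rfl
    have h3 : ({1, s, a, a * s} : Set G).ncard ≤ 4 := by
      refine (Set.ncard_insert_le _ _).trans ?_
      have h4 : ({s, a, a * s} : Set G).ncard ≤ 3 := by
        refine (Set.ncard_insert_le _ _).trans ?_
        have h5 : ({a, a * s} : Set G).ncard ≤ 2 := by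
          refine (Set.ncard_insert_le _ _).trans ?_
          rw [Set.ncard_singleton]
        omega
      omega
    omega
  have haa := hA2 a ha
  have hbb := hA2 b hb
  have hab := hAc a ha b hb
  have hab1 : a * b ≠ 1 := GenGood.ne_of_mul_ne haa hba
  have habs : a * b ≠ s := by
    intro h1
    apply hbas
    calc b = (a * a) * b := by rw [haa, one_mul]
      _ = a * (a * b) := by group
      _ = a * s := by rw [h1]
  have hck : ∀ {c : G}, c ∈ P.A h hS → c ∈ ck M := fun hc =>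
    mem_ck_of_syl h hM.1 (syl_inf hS hM) (hA2 _ hc) fun q hq => P.A_comm_of_ne h hS hM hMK hML hc hq
  have h1 : pre H (px Om H M) ≤ GS (P.A h hS) s :=
    GenGood.pre_px_le_of_gen hE h ty hp (CoresG.mem_cov h hS hM hs) (hAH ha) (hAH hb) haa hbb hab (hck ha) (hck hb)
      XX_le_GS (le_GS ha ha1 has) (le_GS hb hb1 hbs) (le_GS (mul_mem ha hb) hab1 habs)
  intro y hy
  have hy' : y ∈ px Om H M := by
    change y ∈ pc (fam Om H) (tr H M)
    rw [hne]
    exact le_pc hy
  obtain ⟨x, rfl⟩ := qm_surjective H y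
  exact ⟨x, h1 (mem_pre.2 ⟨x.2, hy'⟩), rfl⟩

/-- **(G)** if the piece of `K` is generated -/
theorem LL_le_of_block (hs : s ∈ ES Om S) (hKs : zz K ≠ s)
    (hB : pc (fam Om (centralizer {s})) (tr (centralizer {s}) K) ∈ fam Om (centralizer {s}) ∨
      pc (fam Om (centralizer {s})) (tr (centralizer {s}) K) ≤
        ⨆ (b : centralizer ({s} : Set G)) (_ : (b : G) ∈ P.A h hS ∧ (b : G) ≠ 1 ∧ (b : G) ≠ s),
          centralizer {qm (centralizer {s}) b}) :
    LL Om (centralizer {s}) ≤ GS (P.A h hS) s := by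
  set H := centralizer ({s} : Set G) with hH
  have hKc := CoresG.mem_cov h hS P.hK hs
  refine LL_le_of XX_le_GS fun J hJ => ?_
  by_cases hne : pc (fam Om H) (tr H K) = pc (fam Om H) J
  swap
  · exact P.le_of_ne h hS ty hs P.hK hKs hJ hne
  have hJK : J ≤ pc (fam Om H) (tr H K) := by rw [hne]; exact le_pc
  rcases hB with hB | hB
  · have hzE : zz K ∈ ES Om S := zz_mem_ES P.hK
    have hf := hyp_fam h ty H
    have h1 : J = tr H K := (hf.eq_of_le hJ hB hJK).trans (hf.eq_of_le (tr_mem hKc) hB le_pc).symm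
    refine le_map_of_cent (P.A_sq h hS) (P.ES_le_A h hS hzE) (h.zz_ne P.hK.1) hKs (ES_le_cent h hS hs hzE) ?_
    rw [h1, mem_centralizer_iff]
    intro y hy
    have h2 := mem_centralizer_singleton_iff.1 (hf.le_centralizer (tr_mem hKc) hy)
    rwa [zz_tr h ty hKc] at h2
  · refine (hJK.trans hB).trans (iSup₂_le ?_)
    rintro b ⟨hb, hb1, hbs⟩
    exact cent_le_map (P.A_sq h hS) hb hb1 hbs b.2

end Pair

end Cfsg.Agent.Cit.FC
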