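import Cfsg.Agent.Cit.FC.KABGlue
import Cfsg.Agent.Cit.Four.KABChart
import Cfsg.Agent.Cit.ParabSL2

/-!
# `KABChart` (helper197's `kab_chart` plugged into helper730's `kabStmt`)
-/

set_option autoImplicit false

namespace Cfsg.Agent.Cit.FC

open Subgroup Cfsg Cfsg.Agent.Cit SubCent UseT Four

universe u

theorem kabChart : KABChart.{u} := by
  intro X _ _ Om h _ D hD hD2 K hK L hL hKD hLD _ hc hz v hv w hw hvv hww
  have key : ∀ τ : Nodes.Chart.Ty, (τ = .C 2 ∨ τ = .A 3 ∨ τ = .B 3) → PieceTy Om D τ →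
      (∀ x ∈ XX (v * w), x * zz K = zz K * x) ∧ D ≤ CT.GB {zz K, v * w, v * w * zz K} := by
    intro τ hτ g
    refine Four.kab_chart h ?_ hD hτ g hK hL hKD hLD hc hz hv hw hvv hww
    obtain ⟨p, c, -, -, ⟨F, _, _, _, sl⟩, -⟩ := g.chart
    have hodd : Odd (Fintype.card F) := by
      rw [Nat.odd_iff]
      exact FiniteField.odd_card_of_char_ne_two (by rw [ringChar.eq F p]; exact c.odd)
    intro J hJ hJD
    obtain ⟨r, hr, x, -, rfl⟩ := c.om_conj J hJ hJD
    obtain ⟨e⟩ := sl r hr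
    exact ParabSL2.OO_eq_bot hodd (e.trans (Subgroup.equivMapOfInjective (c.Z r ⊔ c.Z (-r)) (MulAut.conj x).toMonoidHom
      (MulAut.conj x).injective))
  rcases hD2 with g | g | g
  · exact key _ (Or.inl rfl) g
  · exact key _ (Or.inr (Or.inl rfl)) g
  · exact key _ (Or.inr (Or.inr rfl)) g

theorem kabStmt_main : KABStmt.{u} := kabStmt kabChart

end Cfsg.Agent.Cit.FC
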