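import Cfsg.Agent.Cit.FC.Cores
import Cfsg.Agent.Cit.Four.TypesMain
import Cfsg.Agent.Cit.Four.KABHex

/-!
# `KAB` for the configurations `TwoTwo`

* `KABChart` : the fact `KAB` for the pieces with a chart of type `C 2`, `A 3`, `B 3`;
* `kabStmt` : `KABStmt`, from `KABChart` and helper85's `kab_hex`.
-/

set_option autoImplicit false
set_option linter.style.haveILetI false
set_option linter.unusedSectionVars false

namespace Cfsg.Agent.Cit.FC

open Subgroup Cfsg Cfsg.Agent.Cit SubCent UseT CovES Four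
open Cfsg.Agent.Cit.TypeDet (cm)

universe u

/-- `KAB` for the pieces with a chart of type `C 2`, `A 3`, `B 3` -/
def KABChart : Prop :=
  ∀ (X : Type u) [Group X] [Finite X] (Om : Set (Subgroup X)), Hyp Om → (∀ K ∈ Om, Ty K) →
    ∀ (D : Subgroup X), IsComponent D →
    (PieceTy Om D (.C 2) ∨ PieceTy Om D (.A 3) ∨ PieceTy Om D (.B 3)) → ∀ K ∈ Om, ∀ L ∈ Om, K ≤ D → L ≤ D → K ≠ L →
    K ≤ centralizer (L : Set X) → zz K = zz L → ∀ v ∈ K, ∀ w ∈ L, v * v = zz K → w * w = zz L →
    (∀ x ∈ XX (v * w), x * zz K = zz K * x) ∧ D ≤ CT.GB {zz K, v * w, v * w * zz K}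

section

variable {X : Type u} [Group X] [Finite X] {F : Set (Subgroup X)} {J : Fin 4 → Subgroup X}

/-- **`KAB` for the structure `FourX`**, `zz (J 0)` central -/
theorem kab_of_fourX (hch : KABChart.{u}) (T : FourX F J) (ty : ∀ K ∈ F, Ty K)
    (hz : ∀ x : X, x * zz (J 0) = zz (J 0) * x) : KAB F (J 2) (J 3) := by
  by_cases h2 : pc F (J 2) = J 2
  · have hs0 : pc F (J 0) = J 0 := T.single_of_central hz
    have hs1 : pc F (J 1) = J 1 := T.single_of_central fun x => by rw [← T.z01]; exact hz x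
    have h3 : pc F (J 3) = J 3 := by
      by_contra h3
      have h4 := T.pc_eq_of_zz (i := 3) (j := 2) T.z23.symm h3
      rw [h2] at h4
      have h5 : J 3 = J 2 := T.hyp.eq_of_le (T.mem 3) (T.mem 2) (by rw [h4]; exact le_pc)
      exact T.ne (by decide) h5
    have hcen : ∀ x : X, x * zz (J 2) = zz (J 2) * x := by
      intro x
      have h4 : ∃ i, Cit.cj x (J 2) = J i := by
        refine T.mem_range_of_single (fun i => ?_) (T.hyp.conj _ (T.mem 2) x)
        fin_cases i
        · exact hs0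
        · exact hs1
        · exact h2
        · exact h3
      obtain ⟨i, hi⟩ := h4
      have h5 : x * zz (J 2) * x⁻¹ = zz (J i) := by rw [← hi, T.hyp.zz_cj (T.mem 2) x]
      have key : zz (J i) = zz (J 0) ∨ zz (J i) = zz (J 2) := by
        fin_cases i
        · exact Or.inl rfl
        · exact Or.inl T.z01.symm
        · exact Or.inr rfl
        · exact Or.inr T.z23.symm
      rcases key with h6 | h6
      · have h7 : zz (J 2) = zz (J 0) := by
          rw [h6] at h5
          calc zz (J 2) = x⁻¹ * (x * zz (J 2) * x⁻¹) * x := by group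
            _ = x⁻¹ * (zz (J 0) * x) := by rw [h5, mul_assoc]
            _ = zz (J 0) := by rw [← hz x, inv_mul_cancel_left]
        rw [h7]; exact hz x
      · rw [h6] at h5
        calc x * zz (J 2) = x * zz (J 2) * x⁻¹ * x := by group
          _ = zz (J 2) * x := by rw [h5]
    exact ⟨fun v _ w _ _ _ x _ => hcen x, Or.inl (by rw [h2]; exact T.mem 2)⟩
  · have h3 : pc F (J 3) = pc F (J 2) := T.pc_eq_of_zz T.z23 h2
    have hnm := (T.pieces.eq_or_quasisimple T.hyp (T.mem 2)).resolve_left h2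
    have hl2 : J 2 ≤ pc F (J 2) := le_pc
    have hl3 : J 3 ≤ pc F (J 2) := by rw [← h3]; exact le_pc
    have hcomp : IsComponent (pc F (J 2)) := isComponent_pc T.hyp T.pieces (T.mem 2) hnm.1
    have hcl : J 2 ≤ centralizer (J 3 : Set X) := TypeDet.cm_iff_le_centralizer.1 (T.comm 2 3 (by decide))
    have hne : J 2 ≠ J 3 := T.ne (by decide)
    have hD : (PieceTy F (pc F (J 2)) (.C 2) ∨ PieceTy F (pc F (J 2)) (.A 3) ∨ PieceTy F (pc F (J 2)) (.B 3)) ∨
        PieceG2 F (pc F (J 2)) := by
      have hnz : ¬ ∀ x ∈ pc F (J 2), x * zz (J 2) = zz (J 2) * x := fun h4 =>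
        h2 (not_central T.hyp T.core (T.mem 2) h4)
      have hp := T.pieces.piece T.hyp (T.mem 2)
      have hs0 : pc F (J 0) = J 0 := T.single_of_central hz
      have hs1 : pc F (J 1) = J 1 := T.single_of_central fun x => by rw [← T.z01]; exact hz x
      have hne0 : pc F (J 2) ≠ pc F (J 0) := by
        intro e
        apply hnm.1
        rw [e, hs0]; exact T.mem 0
      have hne1 : pc F (J 2) ≠ pc F (J 1) := by
        intro e
        apply hnm.1
        rw [e, hs1]; exact T.mem 1
      have hmax : ∀ L ∈ F, L ≤ pc F (J 2) → cm L (J 2) → cm L (J 3) → False := by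
        intro L hL hLD hL2 hL3
        have h4 := (le_pc_iff T.hyp hL (T.mem 2)).1 hLD
        refine T.false_of_cm hL fun i => ?_
        fin_cases i
        · exact cm_of_pc_ne hL (T.mem 0) (by rw [h4]; exact hne0)
        · exact cm_of_pc_ne hL (T.mem 1) (by rw [h4]; exact hne1)
        · exact hL2
        · exact hL3
      generalize pc F (J 2) = D at hnm hl2 hl3 hp hnz hmax ⊢
      cases hp with
      | single mem => exact absurd mem hnm.1
      | chart nmem qs two p c τ kind ok small sl zx =>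
        have h4 := FourTypes.types_ty T.hyp c kind ok (T.mem 2) (T.mem 3) hl2 hl3 (T.comm 2 3 (by decide)) T.z23 hmax
        rcases h4 with rfl | rfl | rfl
        · exact Or.inl (Or.inr (Or.inl ⟨nmem, qs, two, p, c, kind, small, sl, zx⟩))
        · exact Or.inl (Or.inr (Or.inr ⟨nmem, qs, two, p, c, kind, small, sl, zx⟩))
        · exact Or.inl (Or.inl ⟨nmem, qs, two, p, c, kind, small, sl, zx⟩)
      | exc qs two p prime odd iso ne zzc three =>
        obtain ⟨K, i1, i2, i3, i4⟩ := iso
        exact Or.inr ⟨hnm.1, qs, two, ⟨p, K, i1, i2, i3, prime, odd, i4⟩, zzc, three⟩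
      | mathieu qs two iso ne mem =>
        exfalso
        exact false_of_mathieu_two T.hyp iso (T.mem 2) (T.mem 3) hl2 hl3 (T.comm 2 3 (by decide)) T.z23 hnz
    have key : ∀ v ∈ J 2, ∀ w ∈ J 3, v * v = zz (J 2) → w * w = zz (J 2) →
        (∀ x ∈ XX (v * w), x * zz (J 2) = zz (J 2) * x) ∧ pc F (J 2) ≤ CT.GB {zz (J 2), v * w, v * w * zz (J 2)} := by
      intro v hv w hw hvv hww
      rcases hD with h5 | h5
      · exact hch X F T.hyp ty _ hcomp h5 _ (T.mem 2) _ (T.mem 3) hl2 hl3 hne hcl T.z23 v hv w hw hvv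
          (by rw [hww, T.z23])
      · exact kab_hex T.hyp ty hcomp h5 (T.mem 2) (T.mem 3) hl2 hl3 hne hcl T.z23 hv hw hvv (by rw [hww, T.z23])
    exact ⟨fun v hv w hw hvv hww => (key v hv w hw hvv hww).1,
      Or.inr fun v hv w hw hvv hww => (key v hv w hw hvv hww).2⟩

end

/-- **`KABStmt`** -/
theorem kabStmt (hch : KABChart.{u}) : KABStmt.{u} := by
  intro G _ _ Om m S K₁ K₂ K₃ K₄ t _
  have h := m.hyp
  have hz1 : zz K₁ ∈ ES Om (S : Subgroup G) := zz_mem_ES t.mem1
  have T := fourX m t hz1 (h.zz_ne t.mem1.1) (h.DD_le_centralizer S.isPGroup' t.mem1)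
  refine kab_of_fourX hch T (ty_fam m.isType _) ?_
  intro x
  obtain ⟨y, rfl⟩ := qm_surjective _ x
  change _ * zz (tr (centralizer {zz K₁}) K₁) = zz (tr (centralizer {zz K₁}) K₁) * _
  rw [zz_tr h m.isType (mem_cov_of_mem_ES h S.isPGroup' t.mem1 hz1), ← map_mul, ← map_mul]
  congr 1
  exact Subtype.ext (mem_centralizer_singleton_iff.1 y.2)

end Cfsg.Agent.Cit.FC
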