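import Cfsg.Agent.Cit.FC.Base

/-!
# Cores for `|E| = 4`: the group `A = ⟨E, v w⟩` and (TOR)

`K ≠ L` in `Om(S)` with the same involution, `v ∈ K ⊓ S`, `w ∈ L ⊓ S` of order four, `f = v w`, `A = ⟨E, f⟩`.

* `Pair.ES_le_CX` : `E ≤ CX b x` suffices for (TOR);
* `Pair.tor_two` : (TOR) if there are `M₁, M₂ ∈ Om(S)`, different from `K`, `L`, with different involutions;
* `Pair.tor_one` : (TOR) from the remaining two commutator relations if there is one `M ≠ K, L` with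
  `zz M ≠ zz K`.
-/

set_option autoImplicit false
set_option linter.style.haveILetI false
set_option linter.unusedSectionVars false

namespace Cfsg.Agent.Cit.FC

open Subgroup Cfsg Cfsg.Agent.Cit SubCent UseT TorFunctor CoresG
open scoped commutatorElement

universe u

variable {G : Type u} [Group G] [Finite G] {Om : Set (Subgroup G)} {S : Subgroup G}

/-- two members of `Om(S)` with the same involution and elements of order four in their Sylow 2-subgroups -/
structure Pair (Om : Set (Subgroup G)) (S K L : Subgroup G) (v w : G) : Prop where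
  hK : K ∈ OmS Om S
  hL : L ∈ OmS Om S
  ne : K ≠ L
  eq : zz K = zz L
  v_mem : v ∈ K ⊓ S
  w_mem : w ∈ L ⊓ S
  vv : v * v = zz K
  ww : w * w = zz K

/-- a group of order four is generated by any two different nontrivial elements -/
theorem le_of_two {E H : Subgroup G} (hcomm : ∀ a ∈ E, ∀ b ∈ E, a * b = b * a) (hsq : ∀ a ∈ E, a * a = 1)
    (h4 : Nat.card E = 4) {a b : G} (ha : a ∈ E) (hb : b ∈ E) (ha1 : a ≠ 1) (hb1 : b ≠ 1) (hab : b ≠ a)
    (haH : a ∈ H) (hbH : b ∈ H) : E ≤ H := by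
  have h1 := card_four (hs := hsq a ha) (hb := hsq b hb) (hc := hcomm a ha b hb) ha1 hb1 hab
  have key : ∀ X : Subgroup G, a ∈ X → b ∈ X → four a b (hsq a ha) (hsq b hb) (hcomm a ha b hb) ≤ X := by
    rintro X h2 h3 x (rfl | rfl | rfl | rfl)
    · exact one_mem _
    · exact h2
    · exact h3
    · exact mul_mem h2 h3
  have h2 := eq_of_le_of_card_ge (key E ha hb) (by rw [h1, h4])
  rw [← h2]
  exact key H haH hbH

namespace Pair

variable {K L : Subgroup G} {v w : G}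

theorem comm (P : Pair Om S K L v w) (h : Hyp Om) (hS : IsPGroup 2 S) : v * w = w * v :=
  h.comm hS P.hK P.hL P.ne P.v_mem P.w_mem

theorem symm (P : Pair Om S K L v w) : Pair Om S L K w v :=
  ⟨P.hL, P.hK, P.ne.symm, P.eq.symm, P.w_mem, P.v_mem, by rw [P.ww, P.eq], by rw [P.vv, P.eq]⟩

theorem sq (P : Pair Om S K L v w) (h : Hyp Om) (hS : IsPGroup 2 S) : v * w * (v * w) = 1 := by
  calc v * w * (v * w) = v * (w * v) * w := by group
    _ = v * (v * w) * w := by rw [P.comm h hS]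
    _ = (v * v) * (w * w) := by group
    _ = 1 := by rw [P.vv, P.ww, h.zz_mul P.hK.1]

theorem mem_DD (P : Pair Om S K L v w) : v * w ∈ DD Om S :=
  mul_mem (inf_le_DD P.hK P.v_mem) (inf_le_DD P.hL P.w_mem)

theorem comm_ES (P : Pair Om S K L v w) (h : Hyp Om) (hS : IsPGroup 2 S) :
    ∀ e ∈ ES Om S, e * (v * w) = (v * w) * e := fun e he =>
  mem_centralizer_iff.1 (DD_le_centralizer_ES h hS P.mem_DD) e he

theorem comm_of_ne (P : Pair Om S K L v w) (h : Hyp Om) (hS : IsPGroup 2 S) {M : Subgroup G}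
    (hM : M ∈ OmS Om S) (hMK : M ≠ K) (hML : M ≠ L) {q : G} (hq : q ∈ M ⊓ S) : q * (v * w) = (v * w) * q := by
  have h1 := h.comm hS hM P.hK hMK hq P.v_mem
  have h2 := h.comm hS hM P.hL hML hq P.w_mem
  rw [← mul_assoc, h1, mul_assoc, h2, mul_assoc]

theorem orderOf_v (P : Pair Om S K L v w) (h : Hyp Om) : orderOf v = 4 :=
  GQ.orderOf_of_sq P.vv (h.zz_mul P.hK.1) (h.zz_ne P.hK.1)

/-- an element of `K ⊓ S` inverting `v` -/
theorem exists_inverting (P : Pair Om S K L v w) (h : Hyp Om) (hS : IsPGroup 2 S) :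
    ∃ y ∈ K ⊓ S, y * y = zz K ∧ y * v * y⁻¹ = v⁻¹ := by
  obtain ⟨c, v0, n, hq⟩ := h.exists_gq P.hK.1 (syl_inf hS P.hK)
  obtain ⟨y, hy, hy4, hyv⟩ := hq.exists_inverting P.v_mem (P.orderOf_v h)
  refine ⟨y, hy, ?_, hyv⟩
  refine hq.eq_z (mul_mem hy hy) ?_ ?_
  · have h1 : y ^ 4 = 1 := by rw [← hy4, pow_orderOf_eq_one]
    rw [← h1]; simp only [pow_succ, pow_zero, one_mul, mul_assoc]
  · intro h1
    have h2 : orderOf y ∣ 2 := orderOf_dvd_of_pow_eq_one (by rw [pow_two, h1])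
    rw [hy4] at h2
    omega

theorem v_ne_inv (P : Pair Om S K L v w) (h : Hyp Om) : v⁻¹ ≠ v := by
  intro h1
  apply h.zz_ne P.hK.1
  rw [← P.vv]
  nth_rewrite 1 [← h1]
  exact inv_mul_cancel v

/-- `f = v w` does not commute with `K ⊓ S` -/
theorem notMem (P : Pair Om S K L v w) (h : Hyp Om) (hS : IsPGroup 2 S) : v * w ∉ ES Om S := by
  intro h1
  obtain ⟨y, hy, -, hyv⟩ := P.exists_inverting h hS
  have h2 : (v * w) * y = y * (v * w) :=
    mem_centralizer_iff.1 (DD_le_centralizer_ES h hS (inf_le_DD P.hK hy)) _ h1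
  have h3 := h.comm hS P.hK P.hL P.ne hy P.w_mem
  have h4 : v * y = y * v := by
    have h5 : v * y * w = y * v * w := by
      rw [mul_assoc, h3, ← mul_assoc, h2, mul_assoc]
    exact mul_right_cancel h5
  apply P.v_ne_inv h
  rw [← hyv, ← h4, mul_inv_cancel_right]

/-- the group `A = ⟨E, f⟩` -/
def A (P : Pair Om S K L v w) (h : Hyp Om) (hS : IsPGroup 2 S) : Subgroup G :=
  AA (ES Om S) (v * w) (P.sq h hS) (P.comm_ES h hS)

section

variable (P : Pair Om S K L v w) (h : Hyp Om) (hS : IsPGroup 2 S)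

theorem ES_le_A : ES Om S ≤ P.A h hS := le_AA

theorem f_mem_A : v * w ∈ P.A h hS := f_mem_AA

theorem A_le_DD : P.A h hS ≤ DD Om S := AA_le (ES_le_DD h hS) P.mem_DD

theorem A_comm : ∀ a ∈ P.A h hS, ∀ b ∈ P.A h hS, a * b = b * a := AA_comm fun _ ha _ hb => ES_comm h hS ha hb

theorem A_sq : ∀ a ∈ P.A h hS, a * a = 1 := AA_sq fun _ ha => ES_sq h hS ha

theorem card_A : 2 * Nat.card (ES Om S) ≤ Nat.card (P.A h hS) := card_AA (P.notMem h hS)

theorem A_comm_of_ne {M : Subgroup G} (hM : M ∈ OmS Om S) (hMK : M ≠ K) (hML : M ≠ L) {a : G}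
    (ha : a ∈ P.A h hS) {q : G} (hq : q ∈ M ⊓ S) : q * a = a * q := by
  have h1 : P.A h hS ≤ centralizer {q} := by
    refine AA_le ?_ ?_
    · intro e he
      rw [mem_centralizer_singleton_iff]
      exact mem_centralizer_iff.1 (DD_le_centralizer_ES h hS (inf_le_DD hM hq)) e he
    · exact mem_centralizer_singleton_iff.2 (P.comm_of_ne h hS hM hMK hML hq).symm
  exact (mem_centralizer_singleton_iff.1 (h1 ha)).symm

theorem A_eq_ES_or {a : G} (ha : a ∈ P.A h hS) (haE : a ∉ ES Om S) : a * (v * w) ∈ ES Om S :=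
  ha.resolve_left haE

/-- two elements of `A` outside of `E` differ by an element of `E` -/
theorem mul_mem_ES {a b : G} (ha : a ∈ P.A h hS) (hb : b ∈ P.A h hS) (haE : a ∉ ES Om S) (hbE : b ∉ ES Om S) :
    a * b ∈ ES Om S := by
  have h1 := P.A_eq_ES_or h hS ha haE
  have h2 := P.A_eq_ES_or h hS hb hbE
  have h3 := mul_mem h1 h2
  have h4 : a * (v * w) * (b * (v * w)) = a * b := by
    have h5 : b * (v * w) = (v * w) * b := P.A_comm h hS b hb _ (P.f_mem_A h hS)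
    rw [h5, mul_assoc, ← mul_assoc (v * w), P.sq h hS, one_mul]
  rwa [h4] at h3

/-! ### (TOR) -/

variable (hct : CTStmt.{u}) (ty : ∀ K ∈ Om, IsType K)
include hct ty

/-- `⁅XX a ⊓ C(b), M ⊓ S⁆ ≤ XX b` for `a, b ∈ A` and `M ∈ Om(S)`, `M ≠ K, L` -/
theorem inf_le_CX {M : Subgroup G} (hM : M ∈ OmS Om S) (hMK : M ≠ K) (hML : M ≠ L) {a b : G}
    (ha : a ∈ P.A h hS) (hb : b ∈ P.A h hS) (hp : HasPieces (fam Om (centralizer {b}))) {x : G}
    (hx : x ∈ XX a) (hxb : x * b = b * x) : M ⊓ S ≤ CX b x :=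
  comm_XX hct h ty hM.1 (syl_inf hS hM) (P.A_sq h hS a ha) (P.A_sq h hS b hb) (P.A_comm h hS a ha b hb)
    (fun _ hq => P.A_comm_of_ne h hS hM hMK hML ha hq) (fun _ hq => P.A_comm_of_ne h hS hM hMK hML hb hq) hp hx hxb

omit P in
include h hS in
/-- the case `a, b ∈ E` -/
theorem DD_le_CX {a b : G} (ha : a ∈ ES Om S) (hb : b ∈ ES Om S)
    (hp : HasPieces (fam Om (centralizer {b}))) {x : G} (hx : x ∈ XX a) (hxb : x * b = b * x) :
    DD Om S ≤ CX b x := by
  rw [DD_le_iff]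
  intro M hM
  have key : ∀ {a}, a ∈ ES Om S → ∀ q ∈ M ⊓ S, q * a = a * q := fun ha q hq =>
    (mem_centralizer_iff.1 (DD_le_centralizer_ES h hS (inf_le_DD hM hq)) _ ha).symm
  exact comm_XX hct h ty hM.1 (syl_inf hS hM) (ES_sq h hS ha) (ES_sq h hS hb) (ES_comm h hS ha hb)
    (key ha) (key hb) hp hx hxb

/-- it suffices to have `E ≤ CX b x` -/
theorem A_le_CX {a b : G} (ha : a ∈ P.A h hS) (hb : b ∈ P.A h hS) (hp : HasPieces (fam Om (centralizer {b})))
    {x : G} (hx : x ∈ XX a) (hxb : x * b = b * x) (hE : ES Om S ≤ CX b x) : P.A h hS ≤ CX b x := by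
  by_cases haE : a ∈ ES Om S
  · by_cases hbE : b ∈ ES Om S
    · exact (P.A_le_DD h hS).trans (DD_le_CX h hS hct ty haE hbE hp hx hxb)
    · exact AA_le' hE hb hbE (self_mem_CX hxb)
  · exact AA_le' hE ha haE (CX_of_comm (P.A_comm h hS a ha b hb) (CT.comm_of_mem_XX hx).symm)

/-- **(TOR)** if there are two further members with different involutions -/
theorem tor_two (h4 : Nat.card (ES Om S) = 4) {M₁ M₂ : Subgroup G} (hM₁ : M₁ ∈ OmS Om S) (hM₂ : M₂ ∈ OmS Om S)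
    (h1K : M₁ ≠ K) (h1L : M₁ ≠ L) (h2K : M₂ ≠ K) (h2L : M₂ ≠ L) (hne : zz M₁ ≠ zz M₂) {a b : G}
    (ha : a ∈ P.A h hS) (hb : b ∈ P.A h hS) (hp : HasPieces (fam Om (centralizer {b})))
    {x : G} (hx : x ∈ XX a) (hxb : x * b = b * x) : P.A h hS ≤ CX b x := by
  refine P.A_le_CX h hS hct ty ha hb hp hx hxb ?_
  exact le_of_two (fun _ ha _ hb => ES_comm h hS ha hb) (fun _ ha => ES_sq h hS ha) h4 (zz_mem_ES hM₁)
    (zz_mem_ES hM₂) (h.zz_ne hM₁.1) (h.zz_ne hM₂.1) hne.symm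
    (P.inf_le_CX h hS hct ty hM₁ h1K h1L ha hb hp hx hxb (h.zz_mem_inf hS hM₁))
    (P.inf_le_CX h hS hct ty hM₂ h2K h2L ha hb hp hx hxb (h.zz_mem_inf hS hM₂))

end

end Pair

end Cfsg.Agent.Cit.FC
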