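import Cfsg.Agent.Cit.FC.Two
import Cfsg.Agent.SignalizersComponents.RelFunctor

/-!
# Cores for `|E| = 4`: the statement (P)

`T : Pair2 Om S K L v w v₂ w₂` : two pairs of elements of order four of the twins `K`, `L`, with `v₂`, `w₂` inverting `v`, `w`;
`T.A2 = ⟨E, v w, v₂ w₂⟩` is elementary abelian of order at least 16. For a member `M ∈ Om(S)` different from `K`, `L` and
`Q = ⟨zz M⟩` the relative functor theorem gives a group `W` of odd order with `⁅W ⊓ C(a), Q⁆ = ⁅XX a, Q⁆` for `a ∈ A2`.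

* `Pair2.centralizer_le` : `C(zz M) ≤ N(W)`, if the members generate `C(zz M)` modulo ... (`hgen`);
* `Pair2.mem_CX` : **(P)** `zz M ∈ CX b x` for `x ∈ XX (zz K) ⊓ C(b)`.
-/

set_option autoImplicit false
set_option linter.style.haveILetI false
set_option linter.unusedSectionVars false

namespace Cfsg.Agent.Cit.FC

open Subgroup Cfsg Cfsg.Agent.Cit SubCent UseT TorFunctor CoresG
open scoped commutatorElement

universe u

variable {G : Type u} [Group G] [Finite G] {Om : Set (Subgroup G)}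

/-- two pairs of elements of order four in the twins `K`, `L` -/
structure Pair2 (Om : Set (Subgroup G)) (S K L : Subgroup G) (v w v₂ w₂ : G) : Prop where
  fst : Pair Om S K L v w
  snd : Pair Om S K L v₂ w₂
  iv : v₂ * v * v₂⁻¹ = v⁻¹
  iw : w₂ * w * w₂⁻¹ = w⁻¹

theorem Pair.exists_pair2 {S K L : Subgroup G} {v w : G} (P : Pair Om S K L v w) (h : Hyp Om) (hS : IsPGroup 2 S) :
    ∃ v₂ w₂, Pair2 Om S K L v w v₂ w₂ := by
  obtain ⟨v₂, hv₂, h1, h2⟩ := P.exists_inverting h hS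
  obtain ⟨w₂, hw₂, h3, h4⟩ := P.symm.exists_inverting h hS
  exact ⟨v₂, w₂, P, ⟨P.hK, P.hL, P.ne, P.eq, hv₂, hw₂, h1, by rw [h3, P.eq]⟩, h2, h4⟩

namespace Pair2

variable {S K L : Subgroup G} {v w v₂ w₂ : G} (T : Pair2 Om S K L v w v₂ w₂) (h : Hyp Om) (hS : IsPGroup 2 S)

include T h hS in
theorem comm_fst_snd : v * w * (v₂ * w₂) = v₂ * w₂ * (v * w) := by
  have c1 : v * w = w * v := T.fst.comm h hS
  have c2 : v₂ * w₂ = w₂ * v₂ := T.snd.comm h hS
  have c3 : v * w₂ = w₂ * v := h.comm hS T.fst.hK T.fst.hL T.fst.ne T.fst.v_mem T.snd.w_mem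
  have c4 : v₂ * w = w * v₂ := h.comm hS T.fst.hK T.fst.hL T.fst.ne T.snd.v_mem T.fst.w_mem
  have hz := h.zz_mul T.fst.hK.1
  -- `v₂ v = v⁻¹ v₂`, `v = z v⁻¹`
  have e1 : v₂ * v = v⁻¹ * v₂ := by rw [← T.iv]; group
  have e2 : w₂ * w = w⁻¹ * w₂ := by rw [← T.iw]; group
  have hv : v⁻¹ * v⁻¹ = zz K := by
    have h1 : v⁻¹ * v⁻¹ = (v * v)⁻¹ := by rw [mul_inv_rev]
    rw [h1, T.fst.vv]
    exact inv_of_sq hz
  have hw : w * w = zz K := T.fst.ww
  have c5 : w⁻¹ * v₂ = v₂ * w⁻¹ := by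
    rw [inv_mul_eq_iff_eq_mul, ← mul_assoc, ← c4, mul_inv_cancel_right]
  have c6 : v⁻¹ * w = w * v⁻¹ := by
    rw [inv_mul_eq_iff_eq_mul, ← mul_assoc, c1, mul_inv_cancel_right]
  calc v * w * (v₂ * w₂) = v * (w * v₂) * w₂ := by group
    _ = v * (v₂ * w) * w₂ := by rw [c4]
    _ = (v * v) * v⁻¹ * v₂ * (w * w) * (w⁻¹ * w₂) := by group
    _ = zz K * v⁻¹ * v₂ * zz K * (w⁻¹ * w₂) := by rw [T.fst.vv, hw]
    _ = zz K * (v₂ * v) * zz K * (w₂ * w) := by rw [e1, e2]; group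
    _ = (zz K * zz K) * (v₂ * v) * (w₂ * w) := by
        have h1 : v₂ * v * zz K = zz K * (v₂ * v) := by
          apply h.comm_zz T.fst.hK.1
          exact le_normalizer (mul_mem T.snd.v_mem.1 T.fst.v_mem.1)
        rw [mul_assoc (zz K), h1]; group
    _ = v₂ * (v * w₂) * w := by rw [hz]; group
    _ = v₂ * (w₂ * v) * w := by rw [c3]
    _ = v₂ * w₂ * (v * w) := by group

include T h hS in
theorem A_comm_snd : ∀ a ∈ T.fst.A h hS, a * (v₂ * w₂) = (v₂ * w₂) * a := by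
  have h1 : T.fst.A h hS ≤ centralizer {v₂ * w₂} := by
    refine AA_le (fun e he => ?_) ?_
    · rw [mem_centralizer_singleton_iff]
      exact T.snd.comm_ES h hS e he
    · rw [mem_centralizer_singleton_iff]
      exact T.comm_fst_snd h hS
  exact fun a ha => mem_centralizer_singleton_iff.1 (h1 ha)

/-- `⟨E, v w, v₂ w₂⟩` -/
def A2 : Subgroup G := AA (T.fst.A h hS) (v₂ * w₂) (T.snd.sq h hS) (T.A_comm_snd h hS)

theorem A_le_A2 : T.fst.A h hS ≤ T.A2 h hS := le_AA

theorem ES_le_A2 : ES Om S ≤ T.A2 h hS := (T.fst.ES_le_A h hS).trans (T.A_le_A2 h hS)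

theorem A2_comm : ∀ a ∈ T.A2 h hS, ∀ b ∈ T.A2 h hS, a * b = b * a := AA_comm (T.fst.A_comm h hS)

theorem A2_sq : ∀ a ∈ T.A2 h hS, a * a = 1 := AA_sq (T.fst.A_sq h hS)

theorem A2_comm_of_ne {M : Subgroup G} (hM : M ∈ OmS Om S) (hMK : M ≠ K) (hML : M ≠ L) {a : G}
    (ha : a ∈ T.A2 h hS) {q : G} (hq : q ∈ M ⊓ S) : q * a = a * q := by
  have h1 : T.A2 h hS ≤ centralizer {q} := by
    refine AA_le (fun e he => ?_) ?_
    · rw [mem_centralizer_singleton_iff]
      exact (T.fst.A_comm_of_ne h hS hM hMK hML he hq).symm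
    · exact mem_centralizer_singleton_iff.2 (T.snd.comm_of_ne h hS hM hMK hML hq).symm
  exact (mem_centralizer_singleton_iff.1 (h1 ha)).symm

include T h hS in
theorem notMem : v₂ * w₂ ∉ T.fst.A h hS := by
  intro h1
  -- all elements of `A` commute with `v`
  have h2 : T.fst.A h hS ≤ centralizer {v} := by
    refine AA_le (fun e he => ?_) ?_
    · rw [mem_centralizer_singleton_iff]
      exact mem_centralizer_iff.1 (DD_le_centralizer_ES h hS (inf_le_DD T.fst.hK T.fst.v_mem)) e he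
    · rw [mem_centralizer_singleton_iff, mul_assoc, ← T.fst.comm h hS]
  have h3 := mem_centralizer_singleton_iff.1 (h2 h1)
  have c3 : v * w₂ = w₂ * v := h.comm hS T.fst.hK T.fst.hL T.fst.ne T.fst.v_mem T.snd.w_mem
  have h4 : v₂ * v = v * v₂ := by
    have h5 : v₂ * v * w₂ = v * v₂ * w₂ := by
      calc v₂ * v * w₂ = v₂ * (v * w₂) := by group
        _ = v₂ * (w₂ * v) := by rw [c3]
        _ = v₂ * w₂ * v := by group
        _ = v * (v₂ * w₂) := h3
        _ = v * v₂ * w₂ := by group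
    exact mul_right_cancel h5
  apply T.fst.v_ne_inv h
  rw [← T.iv, h4, mul_inv_cancel_right]

theorem card_A2 (h4 : 4 ≤ Nat.card (ES Om S)) : 16 ≤ Nat.card (T.A2 h hS) := by
  have h1 := T.fst.card_A h hS
  have h2 : 2 * Nat.card (T.fst.A h hS) ≤ Nat.card (T.A2 h hS) := card_AA (T.notMem h hS)
  omega

/-- the output of the relative functor theorem -/
structure Out (S A : Subgroup G) (q : G) (W : Subgroup G) : Prop where
  odd : ¬ 2 ∣ Nat.card W
  le : ∀ a ∈ A, a ≠ 1 → ⁅XX a, zpowers q⁆ ≤ W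
  eq : ∀ a ∈ A, a ≠ 1 → ⁅W ⊓ centralizer {a}, zpowers q⁆ = ⁅XX a, zpowers q⁆
  gen : ∀ B ≤ A, 2 ^ 2 ≤ Nat.card B → W = ⨆ b : {b : G // b ∈ B ∧ b ≠ 1}, ⁅XX (b : G), zpowers q⁆
  nor : ∀ a ∈ A, a ≠ 1 → XX a ≤ normalizer (W : Set G)
  cent : ∀ B ≤ A, 2 ^ 2 ≤ Nat.card B →
    centralizer (B : Set G) ⊓ centralizer (zpowers q : Set G) ≤ normalizer (W : Set G)
  leA : A ≤ normalizer (W : Set G)

theorem exists_out (hodd : OddStmt.{u}) (hct : CTStmt.{u}) (ty : ∀ K ∈ Om, IsType K) (h4 : 4 ≤ Nat.card (ES Om S))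
    (hp : ∀ b ∈ T.A2 h hS, b ≠ 1 → HasPieces (fam Om (centralizer {b}))) {M : Subgroup G} (hM : M ∈ OmS Om S)
    (hMK : M ≠ K) (hML : M ≠ L) : ∃ W, Out S (T.A2 h hS) (zz M) W := by
  have hzA := T.ES_le_A2 h hS (zz_mem_ES hM)
  obtain ⟨W, h1, -, -, h2, h3, h5, h6, h7, -, h8⟩ :=
    SignalizersComponents.RelFunctor.cores (A := T.A2 h hS) (Q := zpowers (zz M)) (X := XX) (T.A2_comm h hS)
      (T.A2_sq h hS) (T.card_A2 h hS h4) (CovES.isPGroup_zpowers_of_sq (h.zz_mul hM.1))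
      (by
        rintro a ha _ ⟨i, rfl⟩
        exact ((show Commute a (zz M) from T.A2_comm h hS a ha _ hzA).zpow_right i).eq)
      (fun a _ _ => XX_le a) (fun a _ _ => odd_XX a) (fun a _ _ => by
        have h9 := hodd (XX a) (fun h2 => odd_XX a h2)
        exact h9)
      (fun a _ _ => centralizer_le_normalizer_XX a)
      (by
        intro a ha b hb ha1 hb1
        rw [Subgroup.commutator_le]
        intro x hx q hq
        have h9 := comm_XX hct h ty hM.1 (syl_inf hS hM) (T.A2_sq h hS a ha) (T.A2_sq h hS b hb)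
          (T.A2_comm h hS a ha b hb) (fun q hq => T.A2_comm_of_ne h hS hM hMK hML ha hq)
          (fun q hq => T.A2_comm_of_ne h hS hM hMK hML hb hq) (hp b hb hb1) hx.1
          (mem_centralizer_singleton_iff.1 hx.2)
        have h10 : zpowers (zz M) ≤ CX b x := zpowers_le.2 (h9 (h.zz_mem_inf hS hM))
        have h11 := (FC.mem_CX.1 (h10 hq)).2
        have h12 := inv_mem h11
        have h13 : (q * x * q⁻¹ * x⁻¹)⁻¹ = x * q * x⁻¹ * q⁻¹ := by group
        rwa [h13] at h12)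
  exact ⟨W, h1, h2, h3, h5, h6, h7, h8⟩

end Pair2

namespace Pair2

variable {S : Sylow 2 G} {K L : Subgroup G} {v w v₂ w₂ : G} (T : Pair2 Om (S : Subgroup G) K L v w v₂ w₂) (h : Hyp Om)

/-- **`C(zz M) ≤ N(W)`** -/
theorem centralizer_le (ty : ∀ K ∈ Om, IsType K) (h4 : Nat.card (ES Om (S : Subgroup G)) = 4) {M : Subgroup G}
    (hM : M ∈ OmS Om (S : Subgroup G))
    (hgen : LL Om (centralizer {zz M}) ≤ XX (zz M) ⊔ ⨆ (b : G) (_ : b ∈ T.fst.A h S.isPGroup' ∧ b ≠ 1 ∧ b ≠ zz M),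
      centralizer {zz M} ⊓ centralizer {b}) {W : Subgroup G} (O : Out (S : Subgroup G) (T.A2 h S.isPGroup') (zz M) W) :
    centralizer {zz M} ≤ normalizer (W : Set G) := by
  have hS := S.isPGroup'
  have hzE := zz_mem_ES hM
  have hzA := T.ES_le_A2 h hS hzE
  have hzz := h.zz_mul hM.1
  have hz1 := h.zz_ne hM.1
  have hQ : centralizer {zz M} ≤ centralizer (zpowers (zz M) : Set G) := by
    intro g hg
    rw [mem_centralizer_iff]
    rintro _ ⟨i, rfl⟩
    exact ((show Commute g (zz M) from mem_centralizer_singleton_iff.1 hg).zpow_right i).eq.symm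
  have h1 : LL Om (centralizer {zz M}) ≤ normalizer (W : Set G) := by
    refine hgen.trans (sup_le (O.nor _ hzA hz1) (iSup₂_le ?_))
    rintro b ⟨hb, hb1, hbz⟩
    have hbb := T.fst.A_sq h hS b hb
    have hbz' := T.fst.A_comm h hS (zz M) (T.fst.ES_le_A h hS hzE) b hb
    have hB := card_four (hs := hzz) (hb := hbb) (hc := hbz') hz1 hb1 hbz
    refine le_trans ?_ (O.cent (four (zz M) b hzz hbb hbz') ?_ (by rw [hB]; norm_num))
    · intro g hg
      have e1 := mem_centralizer_singleton_iff.1 hg.1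
      have e2 := mem_centralizer_singleton_iff.1 hg.2
      refine ⟨mem_centralizer_iff.2 ?_, hQ hg.1⟩
      rintro x (rfl | rfl | rfl | rfl)
      · simp
      · exact e1.symm
      · exact e2.symm
      · calc zz M * b * g = zz M * (b * g) := by group
          _ = zz M * (g * b) := by rw [e2]
          _ = (zz M * g) * b := by group
          _ = g * (zz M * b) := by rw [← e1]; group
    · rintro x (rfl | rfl | rfl | rfl)
      · exact one_mem _
      · exact hzA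
      · exact T.A_le_A2 h hS hb
      · exact mul_mem hzA (T.A_le_A2 h hS hb)
  have h2 : normalizer (ES Om (S : Subgroup G) : Set G) ⊓ centralizer {zz M} ≤ normalizer (W : Set G) := by
    intro g hg
    have hgE := mem_normalizer_iff_cj.1 hg.1
    have hgz := mem_centralizer_singleton_iff.1 hg.2
    rw [mem_normalizer_iff_cj]
    refine eq_of_le_of_card_ge ?_ (by rw [card_cj])
    have h3 := O.gen _ (T.ES_le_A2 h hS) (by rw [h4]; norm_num)
    conv_lhs => rw [h3, cj_iSup]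
    refine iSup_le ?_
    rintro ⟨b, hb, hb1⟩
    rw [cj_commutator, cj_XX]
    have h5 : cj g (zpowers (zz M)) = zpowers (zz M) := by
      rw [← mem_normalizer_iff_cj]
      refine centralizer_le_normalizer _ ?_
      exact hQ hg.2
    rw [h5]
    refine O.le _ ?_ (conj_ne_one hb1)
    apply T.ES_le_A2 h hS
    have h6 : g * b * g⁻¹ ∈ cj g (ES Om (S : Subgroup G)) := conj_mem_cj hb
    rwa [hgE] at h6
  intro g hg
  obtain ⟨l, hl, hlg⟩ := frattini_DD h S (LL_normal h ty (centralizer {zz M})) (DD_le_LL h ty hS hzE) hg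
  have hlC : l ∈ centralizer {zz M} := (map_subtype_le _) hl
  have h3 : l * g ∈ normalizer (W : Set G) :=
    h2 ⟨normalizer_DD_le h hS hlg, mul_mem hlC hg⟩
  have h5 : g = l⁻¹ * (l * g) := by group
  rw [h5]
  exact mul_mem (inv_mem (h1 hl)) h3

/-- **(P)** -/
theorem mem_CX (hE : GenChart.ExcTrip.{u}) (hzv : ZVStmt.{u}) (hfix : FixStmt.{u}) (hodd : OddStmt.{u})
    (hct : CTStmt.{u}) (ty : ∀ K ∈ Om, IsType K) (h4 : Nat.card (ES Om (S : Subgroup G)) = 4)
    (hp : ∀ b, b * b = 1 → b ≠ 1 → HasPieces (fam Om (centralizer {b}))) {M : Subgroup G}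
    (hM : M ∈ OmS Om (S : Subgroup G)) (hMK : M ≠ K) (hML : M ≠ L) (hne : zz K ≠ zz M)
    (hgen : LL Om (centralizer {zz M}) ≤ XX (zz M) ⊔ ⨆ (b : G) (_ : b ∈ T.fst.A h S.isPGroup' ∧ b ≠ 1 ∧ b ≠ zz M),
      centralizer {zz M} ⊓ centralizer {b}) {b : G} (hb : b * b = 1) (hb1 : b ≠ 1)
    (hbE : ∀ e ∈ ES Om (S : Subgroup G), e * b = b * e) (hbK : ∀ q ∈ K ⊓ (S : Subgroup G), q * b = b * q)
    (hbL : ∀ q ∈ L ⊓ (S : Subgroup G), q * b = b * q) {x : G}
    (hx : x ∈ XX (zz K)) (hxb : x * b = b * x) : zz M ∈ CX b x := by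
  have hS := S.isPGroup'
  have hKE := zz_mem_ES T.fst.hK
  have hME := zz_mem_ES hM
  have hKA := T.ES_le_A2 h hS hKE
  have hMA := T.ES_le_A2 h hS hME
  have hKK := h.zz_mul T.fst.hK.1
  have hMM := h.zz_mul hM.1
  have hKM : zz K * zz M = zz M * zz K := ES_comm h hS hKE hME
  obtain ⟨W, O⟩ := T.exists_out h hS hodd hct ty h4.ge (fun b hb hb1 => hp b (T.A2_sq h hS b hb) hb1) hM hMK hML
  have hC := T.centralizer_le h ty h4 hM hgen O
  -- `e = zz K * zz M`
  have heE : zz K * zz M ∈ ES Om (S : Subgroup G) := mul_mem hKE hME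
  have heA := T.ES_le_A2 h hS heE
  have hee : zz K * zz M * (zz K * zz M) = 1 := ES_sq h hS heE
  have he1 : zz K * zz M ≠ 1 := by
    intro h1
    apply hne
    rw [mul_eq_one_iff_eq_inv] at h1
    rw [h1]
    exact inv_of_sq hMM
  -- `y = [x, zz M]`
  obtain ⟨y, hy⟩ : ∃ y, y = x * zz M * x⁻¹ * (zz M)⁻¹ := ⟨_, rfl⟩
  have hyX : y ∈ XX (zz K) := by
    have h1 : y = x * (zz M * x⁻¹ * (zz M)⁻¹) := by rw [hy]; group
    rw [h1]
    exact mul_mem hx (CT.conj_mem_XX hKM.symm (inv_mem hx))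
  have hyW : y ∈ W := by
    refine O.le _ hKA (h.zz_ne T.fst.hK.1) ?_
    rw [hy, ← commutatorElement_def]
    exact commutator_mem_commutator hx (mem_zpowers _)
  have hMb := hbE _ hME
  have hKb := hbE _ hKE
  have heb := hbE _ heE
  have hMH : zz M ∈ centralizer ({b} : Set G) := mem_centralizer_singleton_iff.2 hMb
  have hKH : zz K ∈ centralizer ({b} : Set G) := mem_centralizer_singleton_iff.2 hKb
  have heH : zz K * zz M ∈ centralizer ({b} : Set G) := mem_centralizer_singleton_iff.2 heb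
  have hxH : x ∈ centralizer ({b} : Set G) := mem_centralizer_singleton_iff.2 hxb
  have hyH : y ∈ centralizer ({b} : Set G) := by
    rw [hy]; exact mul_mem (mul_mem (mul_mem hxH hMH) (inv_mem hxH)) (inv_mem hMH)
  have hyinv : zz M * y * (zz M)⁻¹ = y⁻¹ := by
    have h1 := inv_of_sq hMM
    calc zz M * y * (zz M)⁻¹ = zz M * x * zz M * x⁻¹ * (zz M * zz M)⁻¹ := by rw [hy]; group
      _ = zz M * x * zz M * x⁻¹ := by rw [hMM]; group
      _ = zz M * x * (zz M)⁻¹ * x⁻¹ := by rw [h1]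
      _ = y⁻¹ := by rw [hy]; group
  set H := centralizer ({b} : Set G) with hH
  have hpb := hp b hb hb1
  have hKc : K ∈ cov Om H := mem_cov_of_syl h T.fst.hK.1 (syl_inf hS T.fst.hK) hb hbK
  have hLc : L ∈ cov Om H := mem_cov_of_syl h T.fst.hL.1 (syl_inf hS T.fst.hL) hb hbL
  have hQH : K ⊓ (S : Subgroup G) ≤ H := fun q hq => mem_centralizer_singleton_iff.2 (hbK q hq)
  have hQL : L ⊓ (S : Subgroup G) ≤ H := fun q hq => mem_centralizer_singleton_iff.2 (hbL q hq)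
  have hzz : zz (tr H K) = qm H ⟨zz K, hKH⟩ := zz_tr h ty hKc
  have hzzL : zz (tr H L) = zz (tr H K) := by
    rw [hzz, zz_tr h ty hLc]
    congr 1
    exact Subtype.ext T.fst.eq.symm
  have hcLK : tr H L ≤ centralizer (tr H K : Set (HQ H)) := by
    have e1 : ∀ {M : Subgroup G}, M ⊓ (S : Subgroup G) ≤ H → M ∈ OmS Om (S : Subgroup G) →
        M ∈ OmS Om ((S : Subgroup G) ⊓ H) := fun {M} hM1 hM2 => by
      refine ⟨hM2.1, ?_⟩
      have h1 : (S : Subgroup G) ⊓ H ⊓ M = (S : Subgroup G) ⊓ M := by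
        refine le_antisymm (inf_le_inf_right _ inf_le_left) (le_inf (le_inf inf_le_left ?_) inf_le_right)
        rw [inf_comm]; exact hM1
      rw [← inf_relIndex_right, h1, inf_relIndex_right]
      exact hM2.2
    exact comm_tr h ty hpb.core hLc hKc (hS.to_le inf_le_left) inf_le_right (e1 hQL T.fst.hL) (e1 hQH T.fst.hK)
      (Ne.symm T.fst.ne)
  have hMsq : (⟨zz M, hMH⟩ : H) * ⟨zz M, hMH⟩ = 1 := Subtype.ext hMM
  -- the group `R`
  obtain ⟨R, hR⟩ : ∃ R, R = (W.subgroupOf H).map (qm H) := ⟨_, rfl⟩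
  have hRodd : ¬ 2 ∣ Nat.card R := by
    rw [hR]
    intro h2
    apply O.odd
    refine h2.trans ((card_map_dvd _ _).trans ?_)
    rw [← card_map_of_injective H.subtype_injective, subgroupOf_map_subtype]
    exact card_dvd_of_le inf_le_left
  have hRn : centralizer {qm H ⟨zz M, hMH⟩} ≤ normalizer (R : Set (HQ H)) := by
    rw [← centralizer_map (qm_surjective H) (not_dvd_ker H) hMsq]
    rintro _ ⟨c, hc, rfl⟩
    have h1 : (c : G) ∈ centralizer {zz M} := by
      rw [mem_centralizer_singleton_iff]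
      exact congrArg Subtype.val (mem_centralizer_singleton_iff.1 hc)
    rw [mem_normalizer_iff_cj, hR, ← cj_map, ← cj_subgroupOf, mem_normalizer_iff_cj.1 (hC h1)]
  have key : qm H ⟨y, hyH⟩ = 1 := by
    refine eq_one_of_inverts hE hzv hfix hodd (hyp_fam h ty H) (ty_fam ty H) hpb (core_HQ H) (tr_mem hKc) (tr_mem hLc)
      hcLK hzzL hRodd
      (a := qm H ⟨zz M, hMH⟩) (by rw [← map_mul, hMsq, map_one]) ?_ hRn ?_ ?_ ?_ ?_
    · exact qm_mem_centralizer_tr h ty hpb hKc (syl_inf hS T.fst.hK) hQH hMsq fun q hq =>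
        (mem_centralizer_iff.1 (DD_le_centralizer_ES h hS (inf_le_DD T.fst.hK hq)) _ hME).symm
    · -- the relation at `e`
      rw [hR]
      rintro _ ⟨d, hd, rfl⟩ hde
      rw [hzz, ← map_mul] at hde ⊢
      have hd' : (d : G) ∈ W := hd
      have heW := O.leA heA
      -- lift `d` to `W ⊓ C(e)`
      obtain ⟨N, hN⟩ : ∃ N, N = W ⊓ XX b := ⟨_, rfl⟩
      have hNodd : Odd (Nat.card N) := by
        rw [← not_dvd_iff_odd, hN]
        exact fun h2 => O.odd (h2.trans (card_dvd_of_le inf_le_left))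
      have h5 : zz K * zz M * (d : G) * (zz K * zz M)⁻¹ * (d : G)⁻¹ ∈ N := by
        rw [hN]
        refine mem_inf.2 ⟨mul_mem ((mem_normalizer_iff.1 heW _).1 hd') (inv_mem hd'), ?_⟩
        have h6 : qm H (⟨zz K * zz M, heH⟩ * d * ⟨zz K * zz M, heH⟩⁻¹ * d⁻¹) = 1 := by
          have h7 : (⟨zz K, hKH⟩ : H) * ⟨zz M, hMH⟩ = ⟨zz K * zz M, heH⟩ := rfl
          rw [h7] at hde
          rw [map_mul, map_mul, map_mul, ← hde, map_inv, map_inv]
          group
        exact (mem_ker_iff H).1 h6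
      obtain ⟨n, hn, hc⟩ := Weights.exists_commute hNodd hee (fun x hx => by
        rw [hN] at hx ⊢
        exact ⟨(mem_normalizer_iff.1 heW _).1 hx.1, CT.conj_mem_XX heb hx.2⟩) h5
      rw [hN] at hn
      have hnH : n ∈ H := XX_le b hn.2
      have hndW : n * d ∈ W := mul_mem hn.1 hd'
      have h6 : ⁅n * (d : G), zz M⁆ ∈ XX (zz K * zz M) := by
        have h7 : ⁅n * (d : G), zz M⁆ ∈ ⁅W ⊓ centralizer {zz K * zz M}, zpowers (zz M)⁆ :=
          commutator_mem_commutator ⟨hndW, mem_centralizer_singleton_iff.2 hc.eq⟩ (mem_zpowers _)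
        rw [O.eq _ heA he1] at h7
        refine (Subgroup.commutator_le.2 ?_ : ⁅XX (zz K * zz M), zpowers (zz M)⁆ ≤ XX (zz K * zz M)) h7
        intro x hx q hq
        have hqe : q * (zz K * zz M) = zz K * zz M * q := by
          obtain ⟨i, rfl⟩ := hq
          exact ((show Commute (zz K * zz M) (zz M) from ES_comm h hS heE hME).zpow_right i).eq.symm
        rw [commutatorElement_def]
        have h8 : x * q * x⁻¹ * q⁻¹ = x * (q * x⁻¹ * q⁻¹) := by group
        rw [h8]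
        exact mul_mem hx (CT.conj_mem_XX hqe (inv_mem hx))
      have h7 := qm_mem_XX (H := H) (b := ⟨zz K * zz M, heH⟩)
        (x := ⟨n, hnH⟩ * d * ⟨zz M, hMH⟩ * (⟨n, hnH⟩ * d)⁻¹ * ⟨zz M, hMH⟩⁻¹) (Subtype.ext hee) (by
          rw [commutatorElement_def] at h6
          exact h6)
      have h8 : qm H ⟨n, hnH⟩ = 1 := (mem_ker_iff H).2 hn.2
      rw [map_mul, map_mul, map_mul, map_mul, map_inv, map_mul, h8, one_mul, map_inv] at h7
      have h9 : (⟨zz K, hKH⟩ : H) * ⟨zz M, hMH⟩ = ⟨zz K * zz M, heH⟩ := rfl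
      rw [h9]
      exact h7
    · rw [hR]
      exact ⟨⟨y, hyH⟩, hyW, rfl⟩
    · rw [hzz]
      exact qm_mem_XX (Subtype.ext hKK) hyX
    · rw [← map_mul, ← map_inv, ← map_mul, ← map_inv]
      congr 1
      exact Subtype.ext hyinv
  have h1 := (mem_ker_iff H).1 key
  have h2 : y ∈ XX b := h1
  refine ⟨hMb, ?_⟩
  have h3 := inv_mem h2
  have h5 : y⁻¹ = zz M * x * (zz M)⁻¹ * x⁻¹ := by rw [hy]; group
  rwa [h5] at h3

end Pair2

end Cfsg.Agent.Cit.FC
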