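import Cfsg.Agent.Cit.FC.Base
import Cfsg.Agent.Cit.GenPiece
import Cfsg.Agent.Cit.FixEnd
import Cfsg.Agent.Cit.FrameOfFr
import Cfsg.Agent.Nodes.ChartLoc

/-!
# The two parabolic radicals belonging to a member of a chart group

`Side p D K z Z V` : `V ≤ D` is a `p`-group, `Z ≤ V ⊓ K` central in `V`, `C_V(z) ≤ Z`, `⁅V, V⁆ ≤ Z`, and `V` is normalised by
every element which normalises `D` and centralises `K`.

* `exists_sides` : for a chart of the quasisimple group `D` and a member `K ≤ D` there are `Z, V` and `Z', V'` with `Side`,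
  `K = ⟨Z, Z'⟩` and `D = ⟨V, V'⟩`;
* `Side.comm` : the main step of (P).
-/

set_option autoImplicit false
set_option linter.style.haveILetI false
set_option linter.unusedSectionVars false

namespace Cfsg.Agent.Cit.FC

open Subgroup Cfsg Cfsg.Agent.Cit
open scoped commutatorElement

/-! ### Tools -/

section Tools

variable {X : Type*} [Group X]

theorem not_dvd_iff_odd {n : ℕ} : ¬ 2 ∣ n ↔ Odd n := by
  rw [← Nat.not_even_iff_odd, even_iff_two_dvd]

theorem inv_of_sq {a : X} (ha : a * a = 1) : a⁻¹ = a := inv_eq_of_mul_eq_one_right ha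

/-- if `t` is inverted by an involution which commutes with the `t`-invariant group `D`, `t` of odd order, then `t`
commutes with `D` -/
theorem comm_of_inverts [Finite X] {D R : Subgroup X} (hR : ¬ 2 ∣ Nat.card R) {t a : X} (ht : t ∈ R)
    (htD : t ∈ normalizer (D : Set X)) (haD : D ≤ centralizer {a}) (hat : a * t * a⁻¹ = t⁻¹) :
    ∀ d ∈ D, d * t = t * d := by
  intro d hd
  have key : ∀ d ∈ D, t * t * d * (t * t)⁻¹ = d := by
    intro d hd
    have h1 := (mem_normalizer_iff.1 htD d).1 hd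
    have h2 := mem_centralizer_singleton_iff.1 (haD h1)
    have h3 := mem_centralizer_singleton_iff.1 (haD hd)
    -- `a (t d t⁻¹) a⁻¹ = t⁻¹ d t`
    have h4 : t⁻¹ * d * t = t * d * t⁻¹ := by
      calc t⁻¹ * d * t = (a * t * a⁻¹) * d * (a * t * a⁻¹)⁻¹ := by rw [hat, inv_inv]
        _ = a * t * (a⁻¹ * (d * a)) * t⁻¹ * a⁻¹ := by group
        _ = a * t * (a⁻¹ * (a * d)) * t⁻¹ * a⁻¹ := by rw [h3]
        _ = a * (t * d * t⁻¹) * a⁻¹ := by group
        _ = (t * d * t⁻¹) * a * a⁻¹ := by rw [h2]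
        _ = t * d * t⁻¹ := by group
    calc t * t * d * (t * t)⁻¹ = t * (t * d * t⁻¹) * t⁻¹ := by group
      _ = t * (t⁻¹ * d * t) * t⁻¹ := by rw [h4]
      _ = d := by group
  have h1 : t * t ∈ centralizer (D : Set X) := by
    rw [mem_centralizer_iff]
    intro d hd
    have h2 := key d hd
    rw [mul_inv_eq_iff_eq_mul] at h2
    exact h2.symm
  have h2 := Weights.mem_of_sq_mem (not_dvd_iff_odd.1 hR) ht h1
  exact mem_centralizer_iff.1 h2 d hd

end Tools

/-! ### Sides -/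

section Side

variable {X : Type*} [Group X]

/-- see the head of the file -/
structure Side (p : ℕ) (D K : Subgroup X) (z : X) (Z V : Subgroup X) : Prop where
  le : V ≤ D
  pg : IsPGroup p V
  ZV : Z ≤ V
  ZK : Z ≤ K
  zD : z ∈ D
  zK : z ∈ centralizer (K : Set X)
  sq : z * z = 1
  cent : ∀ c ∈ Z, ∀ v ∈ V, c * v = v * c
  fix : ∀ v ∈ V, v * z = z * v → v ∈ Z
  comm : ⁅V, V⁆ ≤ Z
  nor : ∀ c ∈ normalizer (D : Set X), c ∈ centralizer (K : Set X) → c ∈ normalizer (V : Set X)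

theorem mem_cj_iff {g x : X} {H : Subgroup X} : x ∈ cj g H ↔ g⁻¹ * x * g ∈ H := mem_cj

theorem conj_mem_centralizer_iff {g c : X} {K : Subgroup X} (hc : c ∈ centralizer ((cj g K : Subgroup X) : Set X)) :
    g⁻¹ * c * g ∈ centralizer (K : Set X) := GenChart.conj_mem_centralizer_set hc

theorem Side.cj {p : ℕ} {D K Z V : Subgroup X} {z : X} (h : Side p D K z Z V) (g : X) :
    Side p (cj g D) (Cit.cj g K) (g * z * g⁻¹) (Cit.cj g Z) (Cit.cj g V) where
  le := cj_mono g h.le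
  pg := h.pg.of_equiv (cjEquiv g V)
  ZV := cj_mono g h.ZV
  ZK := cj_mono g h.ZK
  zD := conj_mem_cj h.zD
  zK := by
    rw [mem_centralizer_iff]
    intro k hk
    have h1 := mem_centralizer_iff.1 h.zK _ (mem_cj.1 hk)
    calc k * (g * z * g⁻¹) = g * ((g⁻¹ * k * g) * z) * g⁻¹ := by group
      _ = g * (z * (g⁻¹ * k * g)) * g⁻¹ := by rw [h1]
      _ = g * z * g⁻¹ * k := by group
  sq := by
    calc g * z * g⁻¹ * (g * z * g⁻¹) = g * (z * z) * g⁻¹ := by group
      _ = 1 := by rw [h.sq]; group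
  cent := by
    intro c hc v hv
    have h1 := h.cent _ (mem_cj.1 hc) _ (mem_cj.1 hv)
    calc c * v = g * ((g⁻¹ * c * g) * (g⁻¹ * v * g)) * g⁻¹ := by group
      _ = g * ((g⁻¹ * v * g) * (g⁻¹ * c * g)) * g⁻¹ := by rw [h1]
      _ = v * c := by group
  fix := by
    intro v hv hvz
    rw [mem_cj]
    refine h.fix _ (mem_cj.1 hv) ?_
    calc g⁻¹ * v * g * z = g⁻¹ * (v * (g * z * g⁻¹)) * g := by group
      _ = g⁻¹ * (g * z * g⁻¹ * v) * g := by rw [hvz]
      _ = z * (g⁻¹ * v * g) := by group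
  comm := by
    rw [← cj_commutator]
    exact cj_mono g h.comm
  nor := by
    intro c hcD hcK
    have h1 := h.nor _ (GenChart.conj_mem_normalizer_set hcD) (GenChart.conj_mem_centralizer_set hcK)
    rw [mem_normalizer_iff_cj] at h1 ⊢
    have h2 := congrArg (Cit.cj g) h1
    rw [← cj_mul] at h2
    have h3 : g * (g⁻¹ * c * g) = c * g := by group
    rw [h3, cj_mul] at h2
    exact h2

/-- **the main step of (P)** : see `Cit/FC/Side.lean`. `zc` is (ZV). -/
theorem Side.comm_of [Finite X] {p : ℕ} [Fact p.Prime] (hp2 : p ≠ 2) {D K Z V : Subgroup X} {z : X}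
    (S : Side p D K z Z V) (zc : ∀ v ∈ V, (∀ w ∈ V, v * w = w * v) → v ∈ Z) (hF : CT.FixP p D) (hzK : z ∈ K)
    {R : Subgroup X} (hR : ¬ 2 ∣ Nat.card R) {a : X} (ha : a * a = 1) (haD : a ∈ normalizer (D : Set X))
    (haK : a ∈ centralizer (K : Set X)) (hRn : centralizer {a} ≤ normalizer (R : Set X))
    (h1 : ∀ r ∈ R, r * (z * a) = z * a * r → r * a * r⁻¹ * a⁻¹ ∈ XX (z * a))
    {t : X} (ht : t ∈ R) (htD : t ∈ normalizer (D : Set X)) (htK : t ∈ centralizer (K : Set X))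
    (hat : a * t * a⁻¹ = t⁻¹) : ∀ v ∈ V, v * t = t * v := by
  have hai := inv_of_sq ha
  have hzi := inv_of_sq S.sq
  have hza : z * a = a * z := mem_centralizer_iff.1 haK z hzK
  have hzt : z * t = t * z := mem_centralizer_iff.1 htK z hzK
  have hVodd : Odd (Nat.card V) := GenChart.odd_of_isPGroup Fact.out hp2 S.pg
  have hRodd : Odd (Nat.card R) := not_dvd_iff_odd.1 hR
  have hZodd : Odd (Nat.card Z) := Weights.card_odd_of_le hVodd S.ZV
  have hzN : z ∈ normalizer (V : Set X) := S.nor z (le_normalizer S.zD) S.zK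
  have haN : a ∈ normalizer (V : Set X) := S.nor a haD haK
  have htN : t ∈ normalizer (V : Set X) := S.nor t htD htK
  have hzR : z ∈ normalizer (R : Set X) := hRn (mem_centralizer_singleton_iff.2 hza)
  have haR : a ∈ normalizer (R : Set X) := hRn (mem_centralizer_singleton_iff.2 rfl)
  have hZK : ∀ c ∈ Z, ∀ x ∈ centralizer (K : Set X), c * x = x * c := fun c hc x hx =>
    mem_centralizer_iff.1 hx c (S.ZK hc)
  have hee : z * a * (z * a) = 1 := by
    calc z * a * (z * a) = z * (a * z) * a := by group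
      _ = z * (z * a) * a := by rw [hza]
      _ = (z * z) * (a * a) := by group
      _ = 1 := by rw [S.sq, ha, mul_one]
  -- a `p`-element of `D ⊓ O(C(b))` is trivial
  have hcore : ∀ b, b * b = 1 → b ∈ normalizer (D : Set X) → ∀ x ∈ V, x ∈ XX b → x = 1 := by
    intro b hb hbD x hxV hx
    have h2 : XX b ⊓ D ≤ OO (D ⊓ centralizer {b}) := by
      refine le_OO (le_inf inf_le_right (inf_le_left.trans (XX_le b))) ?_ ?_
      · rintro c ⟨hcL, hcb⟩
        rw [mem_normalizer_iff_cj, cj_inf, mem_normalizer_iff_cj.1 (le_normalizer hcL),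
          mem_normalizer_iff_cj.1 (centralizer_le_normalizer_XX b hcb)]
      · intro h2
        exact odd_XX b (h2.trans (card_dvd_of_le inf_le_left))
    have h3 : x ∈ OO (D ⊓ centralizer {b}) := h2 ⟨hx, S.le hxV⟩
    have h4 := (hF b hb hbD).1
    obtain ⟨k, hk⟩ := S.pg ⟨x, hxV⟩
    have hk' : x ^ p ^ k = 1 := congrArg Subtype.val hk
    have h5 : orderOf x ∣ p ^ k := orderOf_dvd_of_pow_eq_one hk'
    have h6 : orderOf x ∣ Nat.card (OO (D ⊓ centralizer {b})) := by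
      rw [← Subgroup.orderOf_mk x h3]; exact orderOf_dvd_natCard _
    have h7 : Nat.Coprime (p ^ k) (Nat.card (OO (D ⊓ centralizer {b}))) :=
      Nat.Coprime.pow_left k (((Nat.Prime.coprime_iff_not_dvd Fact.out).2 h4))
    rw [← orderOf_eq_one_iff]
    exact Nat.eq_one_of_dvd_coprimes h7 h5 h6
  -- `R ⊓ C(a) ≤ XX a`
  have hRa : R ⊓ centralizer {a} ≤ XX a := by
    refine le_OO inf_le_right ?_ ?_
    · intro c hc
      rw [mem_normalizer_iff_cj, cj_inf, mem_normalizer_iff_cj.1 (hRn hc), mem_normalizer_iff_cj.1 (le_normalizer hc)]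
    · exact fun h2 => hR (h2.trans (card_dvd_of_le inf_le_left))
  -- `R ⊓ V = 1`
  have e1 : ∀ x ∈ R, x ∈ V → x * a = a * x → x = 1 := fun x hxR hxV hxa =>
    hcore a ha haD x hxV (hRa ⟨hxR, mem_centralizer_singleton_iff.2 hxa⟩)
  have e2 : ∀ x ∈ R, x ∈ V → x * z = z * x → x = 1 := fun x hxR hxV hxz =>
    e1 x hxR hxV (hZK x (S.fix x hxV hxz) a haK)
  have eZ : ∀ x ∈ R, x ∈ Z → x = 1 := fun x hxR hxZ => e1 x hxR (S.ZV hxZ) (hZK x hxZ a haK)
  have e3 : ∀ x ∈ R, ∀ y ∈ R, x ∈ V → y ∈ V → x * y = y * x := by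
    intro x hxR y hyR hxV hyV
    have h2 := eZ ⁅x, y⁆ (by
      rw [commutatorElement_def]
      exact mul_mem (mul_mem (mul_mem hxR hyR) (inv_mem hxR)) (inv_mem hyR))
      (S.comm (commutator_mem_commutator hxV hyV))
    rw [commutatorElement_def, mul_inv_eq_one, mul_inv_eq_iff_eq_mul] at h2
    exact h2
  have e4 : ∀ b, b * b = 1 → b ∈ normalizer (V : Set X) → b ∈ normalizer (R : Set X) →
      (∀ x ∈ R, x ∈ V → x * b = b * x → x = 1) → ∀ x ∈ R, x ∈ V → b * x * b⁻¹ = x⁻¹ := by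
    intro b hb hbV hbR hfix x hxR hxV
    have hbi := inv_of_sq hb
    have h2 := (mem_normalizer_iff.1 hbV x).1 hxV
    have h3 := (mem_normalizer_iff.1 hbR x).1 hxR
    have h4 := hfix (x * (b * x * b⁻¹)) (mul_mem hxR h3) (mul_mem hxV h2) (by
      have h5 := e3 x hxR _ h3 hxV h2
      have h6 : b * (x * (b * x * b⁻¹)) * b⁻¹ = (b * x * b⁻¹) * x := by
        calc b * (x * (b * x * b⁻¹)) * b⁻¹ = (b * x * b⁻¹) * ((b * b) * x * (b * b)⁻¹) := by group
          _ = (b * x * b⁻¹) * x := by rw [hb]; group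
      rw [← h5, mul_inv_eq_iff_eq_mul] at h6
      exact h6.symm)
    exact (inv_eq_of_mul_eq_one_right h4).symm
  have e5 : ∀ x ∈ R, x ∈ V → x = 1 := by
    intro x hxR hxV
    have h2 := e4 z S.sq hzN hzR e2 x hxR hxV
    have h3 := e4 a ha haN haR e1 x hxR hxV
    have h4 : x * (z * a) = z * a * x := by
      rw [mul_inv_eq_iff_eq_mul] at h2 h3
      calc x * (z * a) = x * z * a := by group
        _ = z * x⁻¹ * a := by
            have : x * z = z * x⁻¹ := by
              have h5 := h2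
              -- `z x = x⁻¹ z`
              calc x * z = x * z * x * x⁻¹ := by group
                _ = x * (z * x) * x⁻¹ := by group
                _ = x * (x⁻¹ * z) * x⁻¹ := by rw [h5]
                _ = z * x⁻¹ := by group
            rw [this]
        _ = z * (a * x) := by rw [h3]; group
        _ = z * a * x := by group
    have h5 := h1 x hxR h4
    have h6 : x * a * x⁻¹ * a⁻¹ = x * x := by
      have h7 : a * x⁻¹ * a⁻¹ = x := by
        have h8 := congrArg (·⁻¹) h3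
        simp only [mul_inv_rev, inv_inv] at h8
        rw [mul_assoc]; exact h8
      calc x * a * x⁻¹ * a⁻¹ = x * (a * x⁻¹ * a⁻¹) := by group
        _ = x * x := by rw [h7]
    rw [h6] at h5
    have heD : z * a ∈ normalizer (D : Set X) := mul_mem (le_normalizer S.zD) haD
    have h7 := hcore _ hee heD _ (mul_mem hxV hxV) h5
    have h8 : x ∈ (⊥ : Subgroup X) := Weights.mem_of_sq_mem hRodd hxR (by rw [h7]; exact one_mem _)
    exact mem_bot.1 h8
  -- `t` centralises `C_V(a)`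
  have e6 : ∀ v ∈ V, v * a = a * v → v * t = t * v := by
    intro v hv hva
    have hvR : v ∈ normalizer (R : Set X) := hRn (mem_centralizer_singleton_iff.2 hva)
    have h2 := (mem_normalizer_iff.1 hvR t).1 ht
    have h3 := (mem_normalizer_iff.1 htN v⁻¹).1 (inv_mem hv)
    have h4 := e5 (v * t * v⁻¹ * t⁻¹) (mul_mem h2 (inv_mem ht)) (by
      have : v * t * v⁻¹ * t⁻¹ = v * (t * v⁻¹ * t⁻¹) := by group
      rw [this]; exact mul_mem hv h3)
    rw [mul_inv_eq_one, mul_inv_eq_iff_eq_mul] at h4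
    exact h4
  -- products `v (a v a⁻¹)` are centralised by `a`
  have e7 : ∀ v ∈ V, v * (a * v * a⁻¹) * a = a * (v * (a * v * a⁻¹)) := by
    intro v hv
    set u := v * (a * v * a⁻¹) with hu
    have h2 := (mem_normalizer_iff.1 haN v).1 hv
    have h3 : a * u * a⁻¹ * u⁻¹ ∈ Z := by
      have h4 : a * u * a⁻¹ = (a * v * a⁻¹) * v := by
        rw [hu]
        calc a * (v * (a * v * a⁻¹)) * a⁻¹ = (a * v * a⁻¹) * ((a * a) * v * (a * a)⁻¹) := by group
          _ = (a * v * a⁻¹) * v := by rw [ha]; group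
      have h5 : a * u * a⁻¹ * u⁻¹ = ⁅a * v * a⁻¹, v⁆ := by
        rw [h4, hu, commutatorElement_def]; group
      rw [h5]
      exact S.comm (commutator_mem_commutator h2 hv)
    obtain ⟨n, hn, hc⟩ := Weights.exists_commute hZodd ha (fun x hx => by
      rw [← hZK x hx a haK, mul_inv_cancel_right]; exact hx) h3
    have h4 := hZK n hn a haK
    have h5 : n * u * a = n * (a * u) := by
      rw [hc.eq, ← mul_assoc, ← h4]; group
    rw [mul_assoc] at h5
    exact mul_left_cancel h5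
  -- `t` acts trivially on `V / C_V(a)`
  let N : Subgroup X :=
    { carrier := {s | s ∈ normalizer (V : Set X) ∧ ∀ x ∈ V, (s * x * s⁻¹ * x⁻¹) * a = a * (s * x * s⁻¹ * x⁻¹)}
      one_mem' := ⟨one_mem _, fun x _ => by simp⟩
      mul_mem' := by
        rintro s s' ⟨hs, hs1⟩ ⟨hs', hs1'⟩
        refine ⟨mul_mem hs hs', fun x hx => ?_⟩
        have h2 := hs1 _ ((mem_normalizer_iff.1 hs' x).1 hx)
        have h3 := hs1' x hx
        have h4 : s * s' * x * (s * s')⁻¹ * x⁻¹ =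
            (s * (s' * x * s'⁻¹) * s⁻¹ * (s' * x * s'⁻¹)⁻¹) * (s' * x * s'⁻¹ * x⁻¹) := by group
        rw [h4, mul_assoc, h3, ← mul_assoc, h2, mul_assoc]
      inv_mem' := by
        rintro s ⟨hs, hs1⟩
        refine ⟨inv_mem hs, fun x hx => ?_⟩
        have h2 := hs1 _ ((mem_normalizer_iff.1 (inv_mem hs) x).1 hx)
        have h4 : s * (s⁻¹ * x * s⁻¹⁻¹) * s⁻¹ * (s⁻¹ * x * s⁻¹⁻¹)⁻¹ = (s⁻¹ * x * s⁻¹⁻¹ * x⁻¹)⁻¹ := by group
        rw [h4] at h2
        have h5 : Commute (s⁻¹ * x * s⁻¹⁻¹ * x⁻¹)⁻¹ a := h2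
        have h6 := h5.inv_left
        rw [inv_inv] at h6
        exact h6 }
  have e8 : t ∈ N := by
    refine Weights.mem_of_sq_mem hRodd ht ?_
    refine ⟨mul_mem htN htN, fun x hx => ?_⟩
    -- `v = t x t⁻¹`
    have hvV : t * x * t⁻¹ ∈ V := (mem_normalizer_iff.1 htN x).1 hx
    have hv2 : t * (t * x * t⁻¹) * t⁻¹ ∈ V := (mem_normalizer_iff.1 htN _).1 hvV
    obtain ⟨v, hv⟩ : ∃ v, v = t * x * t⁻¹ := ⟨_, rfl⟩
    rw [← hv] at hvV hv2
    have h2 := e7 _ hv2
    have h3 := e7 _ hvV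
    have h4 := e6 _ (mul_mem hvV ((mem_normalizer_iff.1 haN v).1 hvV)) h3
    obtain ⟨k, hk⟩ : ∃ k, k = v * (a * v * a⁻¹) := ⟨_, rfl⟩
    rw [← hk] at h3 h4
    have h5 : a * v * a⁻¹ = v⁻¹ * k := by rw [hk]; group
    -- `a (t v t⁻¹) a⁻¹ = t⁻¹ v⁻¹ t k`
    have h6 : a * (t * v * t⁻¹) * a⁻¹ = t⁻¹ * v⁻¹ * t * k := by
      calc a * (t * v * t⁻¹) * a⁻¹ = (a * t * a⁻¹) * (a * v * a⁻¹) * (a * t * a⁻¹)⁻¹ := by group
        _ = t⁻¹ * (v⁻¹ * k) * t := by rw [hat, h5, inv_inv]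
        _ = t⁻¹ * v⁻¹ * (k * t) := by group
        _ = t⁻¹ * v⁻¹ * t * k := by rw [h4]; group
    rw [h6] at h2
    have h7 : t * t * x * (t * t)⁻¹ * x⁻¹ = (t * v * t⁻¹) * (t⁻¹ * v⁻¹ * t * k) * k⁻¹ := by
      have h8 : x = t⁻¹ * v * t := by rw [hv]; group
      rw [h8]; group
    rw [h7]
    have h8 : Commute (t * v * t⁻¹ * (t⁻¹ * v⁻¹ * t * k)) a := h2
    have h9 : Commute k a := h3
    exact (h8.mul_left h9.inv_left).eq
  -- `t x t⁻¹ = w x`, `w` commutes with `a`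
  intro x hx
  obtain ⟨w, hw⟩ : ∃ w, w = t * x * t⁻¹ * x⁻¹ := ⟨_, rfl⟩
  have hwV : w ∈ V := by rw [hw]; exact mul_mem ((mem_normalizer_iff.1 htN x).1 hx) (inv_mem hx)
  have hwa : w * a = a * w := by rw [hw]; exact e8.2 x hx
  have htx : t * x * t⁻¹ = w * x := by rw [hw]; group
  -- `w` is central in `V`
  have f1 : ∀ y ∈ V, y * a = a * y → w * y = y * w := by
    intro y hy hya
    have hty := e6 y hy hya
    obtain ⟨c, hc⟩ : ∃ c, c = x * y * x⁻¹ * y⁻¹ := ⟨_, rfl⟩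
    have hcZ : c ∈ Z := by
      rw [hc, ← commutatorElement_def]
      exact S.comm (commutator_mem_commutator hx hy)
    have htc := hZK c hcZ t htK
    have h2 : t * c * t⁻¹ = (w * x) * y * (w * x)⁻¹ * y⁻¹ := by
      have h3 : t * y * t⁻¹ = y := by rw [← hty]; group
      calc t * c * t⁻¹ = (t * x * t⁻¹) * (t * y * t⁻¹) * (t * x * t⁻¹)⁻¹ * (t * y * t⁻¹)⁻¹ := by rw [hc]; group
        _ = _ := by rw [h3, htx]
    have h3 : t * c * t⁻¹ = c := by rw [← htc]; group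
    have h4 : (w * x) * y * (w * x)⁻¹ * y⁻¹ = w * c * y * w⁻¹ * y⁻¹ := by rw [hc]; group
    have h5 : w * c = c * w := (S.cent c hcZ w hwV).symm
    rw [h3, h4, h5] at h2
    have h6 : w * y * w⁻¹ * y⁻¹ = 1 := by
      have h7 : c * (w * y * w⁻¹ * y⁻¹) = c * 1 := by
        rw [mul_one]
        calc c * (w * y * w⁻¹ * y⁻¹) = c * w * y * w⁻¹ * y⁻¹ := by group
          _ = c := h2.symm
      exact mul_left_cancel h7
    rw [mul_inv_eq_one, mul_inv_eq_iff_eq_mul] at h6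
    exact h6
  have f2 : ∀ y ∈ V, w * y = y * w := by
    intro y hy
    obtain ⟨k, hk⟩ : ∃ k, k = y * (a * y * a⁻¹) := ⟨_, rfl⟩
    have hya : a * y * a⁻¹ ∈ V := (mem_normalizer_iff.1 haN y).1 hy
    have hkV : k ∈ V := by rw [hk]; exact mul_mem hy hya
    have hka : k * a = a * k := by rw [hk]; exact e7 y hy
    have hwk := f1 k hkV hka
    obtain ⟨c, hc⟩ : ∃ c, c = w * y * w⁻¹ * y⁻¹ := ⟨_, rfl⟩
    have hcZ : c ∈ Z := by
      rw [hc, ← commutatorElement_def]
      exact S.comm (commutator_mem_commutator hwV hy)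
    have hca := hZK c hcZ a haK
    -- conjugate by `a`
    have h2 : c = w * (y⁻¹ * k) * w⁻¹ * (y⁻¹ * k)⁻¹ := by
      have h3 : a * w * a⁻¹ = w := by rw [← hwa]; group
      have h4 : a * y * a⁻¹ = y⁻¹ * k := by rw [hk]; group
      calc c = a * c * a⁻¹ := by rw [← hca]; group
        _ = (a * w * a⁻¹) * (a * y * a⁻¹) * (a * w * a⁻¹)⁻¹ * (a * y * a⁻¹)⁻¹ := by rw [hc]; group
        _ = _ := by rw [h3, h4]
    have h3 : w * (y⁻¹ * k) * w⁻¹ * (y⁻¹ * k)⁻¹ = w * y⁻¹ * w⁻¹ * y := by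
      calc w * (y⁻¹ * k) * w⁻¹ * (y⁻¹ * k)⁻¹ = w * y⁻¹ * (k * w⁻¹) * k⁻¹ * y := by group
        _ = w * y⁻¹ * (w⁻¹ * k) * k⁻¹ * y := by
            have h5 : k * w⁻¹ = w⁻¹ * k := by
              rw [eq_inv_mul_iff_mul_eq, ← mul_assoc, hwk, mul_inv_cancel_right]
            rw [h5]
        _ = w * y⁻¹ * w⁻¹ * y := by group
    have h4 : w * y⁻¹ * w⁻¹ * y = c⁻¹ := by
      -- `w y w⁻¹ = c y`
      have h5 : w * y * w⁻¹ = c * y := by rw [hc]; group
      have h6 : w * y⁻¹ * w⁻¹ = y⁻¹ * c⁻¹ := by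
        have h7 := congrArg (·⁻¹) h5
        simp only [mul_inv_rev, inv_inv] at h7
        rw [← h7]; group
      have h7 : c * y = y * c := S.cent c hcZ y hy
      rw [h6]
      calc y⁻¹ * c⁻¹ * y = y⁻¹ * (c⁻¹ * y) := by group
        _ = y⁻¹ * (y * c⁻¹) := by
            have h8 : c⁻¹ * y = y * c⁻¹ := by
              rw [inv_mul_eq_iff_eq_mul, ← mul_assoc, h7, mul_inv_cancel_right]
            rw [h8]
        _ = c⁻¹ := by group
    have h5 : c * c = 1 := by
      have h6 : c = c⁻¹ := by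
        rw [h3, h4] at h2; exact h2
      nth_rewrite 1 [h6]
      exact inv_mul_cancel c
    have h6 : c ∈ (⊥ : Subgroup X) := Weights.mem_of_sq_mem hZodd hcZ (by rw [h5]; exact one_mem _)
    rw [mem_bot] at h6
    rw [h6] at hc
    have h7 := hc.symm
    rw [mul_inv_eq_one, mul_inv_eq_iff_eq_mul] at h7
    exact h7
  have hwZ : w ∈ Z := zc w hwV f2
  -- conjugate by `z`
  have hinv : z * x * z⁻¹ * x ∈ Z := by
    refine Weights.inverts_of_fix (Weights.Sec.of_commutator S.ZV S.comm) hZodd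
      (Weights.Act.of_normalizer S.sq hzN ?_) (fun y hy hyz => S.fix y hy hyz) x hx
    exact centralizer_le_normalizer _ (centralizer_le S.ZK S.zK)
  obtain ⟨c, hc⟩ : ∃ c, c = z * x * z⁻¹ * x := ⟨_, rfl⟩
  rw [← hc] at hinv
  have h2 : z * x * z⁻¹ = c * x⁻¹ := by rw [hc]; group
  have hct := hZK c hinv t htK
  have h3 : t * (z * x * z⁻¹) * t⁻¹ = w * (z * x * z⁻¹) := by
    have hzw : z * w = w * z := (mem_centralizer_iff.1 S.zK w (S.ZK hwZ)).symm
    calc t * (z * x * z⁻¹) * t⁻¹ = (t * z) * x * (t * z)⁻¹ := by group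
      _ = (z * t) * x * (z * t)⁻¹ := by rw [hzt]
      _ = z * (t * x * t⁻¹) * z⁻¹ := by group
      _ = (z * w) * x * z⁻¹ := by rw [htx]; group
      _ = w * (z * x * z⁻¹) := by rw [hzw]; group
  rw [h2] at h3
  have h4 : t * (c * x⁻¹) * t⁻¹ = c * (w⁻¹ * x⁻¹) := by
    have h5 : t * x⁻¹ * t⁻¹ = w⁻¹ * x⁻¹ := by
      have h6 := congrArg (·⁻¹) htx
      simp only [mul_inv_rev, inv_inv] at h6
      have h7 : x⁻¹ * w⁻¹ = w⁻¹ * x⁻¹ := by
        have h8 := S.cent w hwZ x hx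
        rw [← mul_inv_rev, ← mul_inv_rev, h8]
      rw [← h7, ← h6]; group
    calc t * (c * x⁻¹) * t⁻¹ = (t * c) * x⁻¹ * t⁻¹ := by group
      _ = (c * t) * x⁻¹ * t⁻¹ := by rw [hct]
      _ = c * (t * x⁻¹ * t⁻¹) := by group
      _ = _ := by rw [h5]
  rw [h4] at h3
  have hcw : c * w = w * c := S.cent c hinv w hwV
  have h5 : c * w⁻¹ = c * w := by
    have h6 : c * w⁻¹ * x⁻¹ = c * w * x⁻¹ := by
      calc c * w⁻¹ * x⁻¹ = c * (w⁻¹ * x⁻¹) := by group
        _ = w * (c * x⁻¹) := h3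
        _ = w * c * x⁻¹ := by group
        _ = c * w * x⁻¹ := by rw [hcw]
    exact mul_right_cancel h6
  have h6 : w⁻¹ = w := mul_left_cancel h5
  have h7 : w ∈ (⊥ : Subgroup X) := Weights.mem_of_sq_mem hZodd hwZ (by
    rw [mem_bot]; nth_rewrite 1 [← h6]; exact inv_mul_cancel w)
  rw [mem_bot] at h7
  rw [h7, one_mul, mul_inv_eq_iff_eq_mul] at htx
  exact htx.symm

end Side

end Cfsg.Agent.Cit.FC
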