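import Cfsg.Agent.Cit.FC.Pair
import Cfsg.Agent.Cit.FC.SideChart

/-!
# Cores for `|E| = 4`: (2B) for `A = ⟨E, v w⟩`

* `Pair.two_of_witness` : (2B) at `s` if there is `M ∈ Om(S)`, `M ≠ K, L`, `zz M ≠ s`;
* `Pair.two_of_kab` : (2B) at `s ∈ E`, `s ≠ zz K`, from the fact `KAB` on the twins `K`, `L` in `C(s) / O(C(s))`.
-/

set_option autoImplicit false
set_option linter.style.haveILetI false
set_option linter.unusedSectionVars false

namespace Cfsg.Agent.Cit.FC

open Subgroup Cfsg Cfsg.Agent.Cit SubCent UseT TorFunctor CoresG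

universe u

/-- facts on the twins `K`, `L` (with the same involution) in a group with `O(X) = 1` -/
structure KAB {X : Type*} [Group X] (Om : Set (Subgroup X)) (K L : Subgroup X) : Prop where
  ka : ∀ v ∈ K, ∀ w ∈ L, v * v = zz K → w * w = zz K → ∀ x ∈ XX (v * w), x * zz K = zz K * x
  kb : pc Om K ∈ Om ∨ ∀ v ∈ K, ∀ w ∈ L, v * v = zz K → w * w = zz K →
    pc Om K ≤ CT.GB {zz K, v * w, v * w * zz K}

section

variable {G : Type*} [Group G]

theorem card_AA_eq [Finite G] {E : Subgroup G} {f : G} {hf : f * f = 1} {hfE : ∀ e ∈ E, e * f = f * e}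
    (hfE' : f ∉ E) : Nat.card (AA E f hf hfE) = 2 * Nat.card E := by
  have h1 : E.relIndex (AA E f hf hfE) = 2 := by
    rw [relIndex, index_eq_two_iff]
    refine ⟨⟨f, f_mem_AA⟩, fun b => ?_⟩
    rw [mem_subgroupOf, mem_subgroupOf, coe_mul]
    rcases b.2 with h1 | h1
    · refine Or.inr ⟨h1, fun h2 => hfE' ?_⟩
      have h3 := mul_mem (inv_mem h1) h2
      rwa [inv_mul_cancel_left] at h3
    · refine Or.inl ⟨h1, fun h2 => hfE' ?_⟩
      have h3 := mul_mem (inv_mem h2) h1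
      rwa [inv_mul_cancel_left] at h3
  have h2 := relIndex_mul_relIndex (⊥ : Subgroup G) E (AA E f hf hfE) bot_le le_AA
  rw [relIndex_bot_left, relIndex_bot_left, h1] at h2
  rw [← h2, mul_comm]

theorem mem_or_mul_mem {A B : Subgroup G} (h8 : Nat.card A = 8) (hB : B ≤ A) (h4 : Nat.card B = 4) {s e : G}
    (hs : s ∈ A) (hsB : s ∉ B) (he : e ∈ A) : e ∈ B ∨ e * s ∈ B := by
  have h1 : (B.subgroupOf A).index = 2 := by
    have h2 := relIndex_mul_relIndex (⊥ : Subgroup G) B A bot_le hB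
    rw [relIndex_bot_left, relIndex_bot_left, h8, h4] at h2
    change B.relIndex A = 2
    omega
  have h2 := mul_mem_iff_of_index_two h1 (a := ⟨e, he⟩) (b := ⟨s, hs⟩)
  rw [mem_subgroupOf, mem_subgroupOf, mem_subgroupOf, coe_mul] at h2
  by_cases h3 : e ∈ B
  · exact Or.inl h3
  · exact Or.inr (h2.2 ⟨fun h => absurd h h3, fun h => absurd h hsB⟩)

theorem exists_notMem_of_card {A : Subgroup G} {F : Finset G} (h : F.card < Nat.card A) : ∃ a ∈ A, a ∉ F := by
  by_contra hcon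
  push Not at hcon
  have h1 := Set.ncard_le_ncard (s := (A : Set G)) (t := (F : Set G)) (fun a ha => hcon a ha) F.finite_toSet
  rw [Set.ncard_coe_finset, ← Nat.card_coe_set_eq] at h1
  exact absurd (lt_of_le_of_lt h1 h) (lt_irrefl _)

/-- `XX (b s) = XX b` for `s` central -/
theorem XX_mul_central {b s : G} (hs : ∀ x : G, s * x = x * s) : XX (b * s) = XX b := by
  have h1 : centralizer ({b * s} : Set G) = centralizer {b} := by
    ext x
    rw [mem_centralizer_singleton_iff, mem_centralizer_singleton_iff]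
    constructor
    · intro h2
      have h3 : x * b * s = b * x * s := by rw [mul_assoc, h2, mul_assoc, hs, ← mul_assoc]
      exact mul_right_cancel h3
    · intro h2
      rw [← mul_assoc, h2, mul_assoc, ← hs, ← mul_assoc]
  rw [XX, XX, h1]

end

variable {G : Type u} [Group G] [Finite G] {Om : Set (Subgroup G)} {S : Subgroup G}

theorem qm_self_central {s : G} (x : HQ (centralizer ({s} : Set G))) :
    qm (centralizer {s}) ⟨s, mem_centralizer_singleton_iff.2 rfl⟩ * x =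
      x * qm (centralizer {s}) ⟨s, mem_centralizer_singleton_iff.2 rfl⟩ := by
  obtain ⟨y, rfl⟩ := qm_surjective _ x
  rw [← map_mul, ← map_mul]
  congr 1
  exact Subtype.ext (mem_centralizer_singleton_iff.1 y.2).symm

/-- an involution centralising a Sylow 2-subgroup of `M` centralises the trace of `M` -/
theorem qm_mem_centralizer_tr (h : Hyp Om) (ty : ∀ K ∈ Om, IsType K) {M Q H : Subgroup G} (hp : HasPieces (fam Om H))
    (hM : M ∈ cov Om H) (hQ : Syl Q M) (hQH : Q ≤ H) {a : H} (ha : a * a = 1) (hQa : ∀ q ∈ Q, q * a = a * q) :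
    qm H a ∈ centralizer (tr H M : Set (HQ H)) := by
  have h1 := mem_ck_of_syl (hyp_fam h ty H) (tr_mem hM) (syl_tr ty hM hQ hQH) (b := qm H a) (by
    rw [← map_mul, ha, map_one]) (by
    rintro _ ⟨y, hy, rfl⟩
    rw [← map_mul, ← map_mul]
    congr 1
    exact Subtype.ext (hQa y hy))
  rw [CovES.mem_ck_def, hp.core _ (tr_mem hM)] at h1
  rw [mem_centralizer_iff]
  intro k hk
  have h2 := mem_bot.1 (h1.2 k hk)
  rw [mul_inv_eq_one, mul_inv_eq_iff_eq_mul] at h2
  exact h2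

namespace Pair

variable {K L : Subgroup G} {v w : G} (P : Pair Om S K L v w) (h : Hyp Om) (hS : IsPGroup 2 S)

theorem card_A_eq (h4 : Nat.card (ES Om S) = 4) : Nat.card (P.A h hS) = 8 := by
  have h1 : Nat.card (P.A h hS) = 2 * Nat.card (ES Om S) := card_AA_eq (P.notMem h hS)
  rw [h1, h4]

theorem A_le_C {s : G} (hs : s ∈ P.A h hS) : P.A h hS ≤ centralizer {s} := fun a ha =>
  mem_centralizer_singleton_iff.2 (P.A_comm h hS a ha s hs)

/-- the common part of the proofs of (2B) -/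
theorem two_aux (hodd : OddStmt.{u}) (h4 : Nat.card (ES Om S) = 4) {s : G} (hs : s ∈ P.A h hS) (hs1 : s ≠ 1)
    {B : Subgroup G} (hB : B ≤ P.A h hS) (hB4 : Nat.card B = 4)
    (key : ∀ C : Subgroup (HQ (centralizer ({s} : Set G))), IsComponent C →
      (∀ e (he : e ∈ P.A h hS), e ≠ 1 → e ≠ s →
        qm (centralizer {s}) ⟨e, P.A_le_C h hS hs he⟩ ∉ centralizer (C : Set (HQ (centralizer ({s} : Set G))))) →
      ∀ u, (∀ e (he : e ∈ P.A h hS), e ≠ 1 → e ≠ s → u ∈ XX (qm (centralizer {s}) ⟨e, P.A_le_C h hS hs he⟩)) →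
        u ∈ centralizer (C : Set (HQ (centralizer ({s} : Set G))))) :
    Del B ⊓ centralizer (P.A h hS : Set G) ≤ XX s := by
  have hA := P.A_le_C h hS hs
  have hB1 : B ≠ ⊥ := by
    rintro rfl
    rw [card_bot] at hB4
    omega
  refine CoreTools.two_of_comp (f := qm (centralizer {s})) (qm_surjective _) (ker_qm _) (hodd.evQ _)
    (P.A_sq h hS) hB hB1 hs hA ?_
  intro C hC hall u _ hu
  by_cases hsB : s ∈ B
  · exfalso
    apply (hall s hsB hs1).2
    rw [mem_centralizer_iff]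
    intro c _
    exact (qm_self_central c).symm
  have hss := P.A_sq h hS s hs
  have hcs : ∀ x : HQ (centralizer ({s} : Set G)),
      qm (centralizer {s}) ⟨s, hA hs⟩ * x = x * qm (centralizer {s}) ⟨s, hA hs⟩ := fun x => qm_self_central x
  have hmul : ∀ e (he : e ∈ P.A h hS), qm (centralizer {s}) ⟨e * s, hA (mul_mem he hs)⟩ =
      qm (centralizer {s}) ⟨e, hA he⟩ * qm (centralizer {s}) ⟨s, hA hs⟩ := by
    intro e he
    rw [← map_mul]
    rfl
  refine key C hC ?_ u ?_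
  · intro e he he1 hes hmem
    rcases mem_or_mul_mem (P.card_A_eq h hS h4) hB hB4 hs hsB he with h1 | h1
    · exact (hall e h1 he1).2 hmem
    · have h2 : e * s ≠ 1 := by
        intro h3
        apply hes
        rw [mul_eq_one_iff_eq_inv] at h3
        rw [h3]
        exact inv_of_sq hss
      apply (hall _ h1 h2).2
      rw [mem_centralizer_iff]
      intro c hc
      have h3 := mem_centralizer_iff.1 hmem c hc
      have h5 := hmul e he
      change c * qm (centralizer {s}) ⟨e * s, hA (mul_mem he hs)⟩ =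
        qm (centralizer {s}) ⟨e * s, hA (mul_mem he hs)⟩ * c
      rw [h5, ← mul_assoc, h3, mul_assoc, ← hcs, ← mul_assoc]
  · intro e he he1 hes
    rcases mem_or_mul_mem (P.card_A_eq h hS h4) hB hB4 hs hsB he with h1 | h1
    · exact hu e h1 he1
    · have h2 : e * s ≠ 1 := by
        intro h3
        apply hes
        rw [mul_eq_one_iff_eq_inv] at h3
        rw [h3]
        exact inv_of_sq hss
      have h3 := hu _ h1 h2
      have h5 : u ∈ XX (qm (centralizer {s}) ⟨e * s, hA (mul_mem he hs)⟩) := h3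
      rw [hmul e he, XX_mul_central hcs] at h5
      exact h5

/-- a component of `C(s) / O(C(s))` on which `zz M` acts nontrivially is the piece of `M`, not a member -/
theorem comp_eq (ty : ∀ K ∈ Om, IsType K) {s : G} (hp : HasPieces (fam Om (centralizer {s}))) {M : Subgroup G}
    (hM : M ∈ cov Om (centralizer {s})) {C : Subgroup (HQ (centralizer ({s} : Set G)))} (hC : IsComponent C)
    (hz : qm (centralizer {s}) ⟨zz M, zz_mem_of_cov h hM⟩ ∉
      centralizer (C : Set (HQ (centralizer ({s} : Set G))))) :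
    C = pc (fam Om (centralizer {s})) (tr (centralizer {s}) M) ∧ C ∉ fam Om (centralizer {s}) := by
  have hf := hyp_fam h ty (centralizer ({s} : Set G))
  have h1 : ¬ C ≤ centralizer {zz (tr (centralizer {s}) M)} := by
    intro h2
    apply hz
    rw [mem_centralizer_iff]
    intro c hc
    have h3 := mem_centralizer_singleton_iff.1 (h2 hc)
    rwa [zz_tr h ty hM] at h3
  have h2 := CoresH.component_eq_pc hf (ty_fam ty _) hp hC (tr_mem hM) h1
  refine ⟨h2, fun h3 => h1 ?_⟩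
  rw [h2] at h3 ⊢
  rw [← hf.eq_of_le (tr_mem hM) h3 le_pc]
  intro k hk
  rw [mem_centralizer_singleton_iff]
  exact hf.comm_zz (tr_mem hM) (le_normalizer hk)

/-- **(2B)** at `s` from a witness `M` -/
theorem two_of_witness (hE : GenChart.ExcTrip.{u}) (hfix : FixStmt.{u}) (hodd : OddStmt.{u})
    (ty : ∀ K ∈ Om, IsType K) (h4 : Nat.card (ES Om S) = 4) {s : G} (hs : s ∈ P.A h hS) (hs1 : s ≠ 1)
    (hp : HasPieces (fam Om (centralizer {s}))) {M : Subgroup G} (hM : M ∈ OmS Om S) (hMK : M ≠ K) (hML : M ≠ L)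
    (hMs : zz M ≠ s) {B : Subgroup G} (hB : B ≤ P.A h hS) (hB4 : Nat.card B = 4) :
    Del B ⊓ centralizer (P.A h hS : Set G) ≤ XX s := by
  refine P.two_aux h hS hodd h4 hs hs1 hB hB4 fun C hC hall u hu => ?_
  have hA := P.A_le_C h hS hs
  have hQH : M ⊓ S ≤ centralizer {s} := fun q hq =>
    mem_centralizer_singleton_iff.2 (P.A_comm_of_ne h hS hM hMK hML hs hq)
  have hMc : M ∈ cov Om (centralizer {s}) := mem_cov_of_syl h hM.1 (syl_inf hS hM) (P.A_sq h hS s hs)
    (fun q hq => P.A_comm_of_ne h hS hM hMK hML hs hq)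
  have hzA : zz M ∈ P.A h hS := P.ES_le_A h hS (zz_mem_ES hM)
  obtain ⟨hCe, hCn⟩ := comp_eq h ty hp hMc hC (hall _ hzA (h.zz_ne hM.1) hMs)
  have hf := hyp_fam h ty (centralizer ({s} : Set G))
  have hbar : ∀ e (he : e ∈ P.A h hS), qm (centralizer {s}) ⟨e, hA he⟩ ∈
      centralizer (tr (centralizer {s}) M : Set (HQ (centralizer ({s} : Set G)))) := fun e he =>
    qm_mem_centralizer_tr h ty hp hMc (syl_inf hS hM) hQH (Subtype.ext (P.A_sq h hS e he))
      (fun q hq => P.A_comm_of_ne h hS hM hMK hML he hq)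
  -- two elements `a`, `b` of `A` with `a, b, a b ≠ 1, s`
  obtain ⟨a, ha, b, hb, ha1, has, hb1, hbs, hab1, habs⟩ : ∃ a ∈ P.A h hS, ∃ b ∈ P.A h hS, a ≠ 1 ∧ a ≠ s ∧ b ≠ 1 ∧
      b ≠ s ∧ a * b ≠ 1 ∧ a * b ≠ s := by
    classical
    have h8 := P.card_A_eq h hS h4
    obtain ⟨a, ha, ha2⟩ := exists_notMem_of_card (A := P.A h hS) (F := {1, s}) (by
      rw [h8]
      exact lt_of_le_of_lt (Finset.card_le_two) (by norm_num))
    obtain ⟨b, hb, hb2⟩ := exists_notMem_of_card (A := P.A h hS) (F := {1, s, a⁻¹, a⁻¹ * s}) (by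
      rw [h8]
      exact lt_of_le_of_lt (Finset.card_le_four) (by norm_num))
    simp only [Finset.mem_insert, Finset.mem_singleton, not_or] at ha2 hb2
    refine ⟨a, ha, b, hb, ha2.1, ha2.2, hb2.1, hb2.2.1, fun h1 => hb2.2.2.1 ?_, fun h1 => hb2.2.2.2 ?_⟩
    · exact (inv_eq_of_mul_eq_one_right h1).symm
    · rw [← h1]; group
  have hmul : qm (centralizer {s}) ⟨a * b, hA (mul_mem ha hb)⟩ =
      qm (centralizer {s}) ⟨a, hA ha⟩ * qm (centralizer {s}) ⟨b, hA hb⟩ := by
    rw [← map_mul]; rfl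
  rw [hCe] at hCn ⊢
  have h1 := pc_le_GB hE hfix hodd hf (ty_fam ty _) hp (core_HQ _) (tr_mem hMc) hCn
    (a := qm (centralizer {s}) ⟨a, hA ha⟩) (b := qm (centralizer {s}) ⟨b, hA hb⟩)
    (qm_sq (b := ⟨a, hA ha⟩) (P.A_sq h hS a ha)) (qm_sq (b := ⟨b, hA hb⟩) (P.A_sq h hS b hb)) (by
      rw [← map_mul, ← map_mul]
      congr 1
      exact Subtype.ext (P.A_comm h hS a ha b hb)) (hbar a ha) (hbar b hb)
  refine centralizer_le h1 (CT.mem_centralizer_GB ?_)
  rintro x (rfl | rfl | rfl)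
  · exact hu a ha ha1 has
  · exact hu b hb hb1 hbs
  · rw [← hmul]
    exact hu _ (mul_mem ha hb) hab1 habs

/-- **(2B)** at `s ∈ E`, `s ≠ zz K`, from `KAB` -/
theorem two_of_kab (hodd : OddStmt.{u}) (ty : ∀ K ∈ Om, IsType K) (h4 : Nat.card (ES Om S) = 4) {s : G}
    (hs : s ∈ ES Om S) (hs1 : s ≠ 1) (hsK : zz K ≠ s) (hp : HasPieces (fam Om (centralizer {s})))
    (hkab : KAB (fam Om (centralizer {s})) (tr (centralizer {s}) K) (tr (centralizer {s}) L)) {B : Subgroup G}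
    (hB : B ≤ P.A h hS) (hB4 : Nat.card B = 4) : Del B ⊓ centralizer (P.A h hS : Set G) ≤ XX s := by
  have hsA := P.ES_le_A h hS hs
  refine P.two_aux h hS hodd h4 hsA hs1 hB hB4 fun C hC hall u hu => ?_
  have hA := P.A_le_C h hS hsA
  have hKc := mem_cov h hS P.hK hs
  have hLc := mem_cov h hS P.hL hs
  have hzA : zz K ∈ P.A h hS := P.ES_le_A h hS (zz_mem_ES P.hK)
  obtain ⟨hCe, hCn⟩ := comp_eq h ty hp hKc hC (hall _ hzA (h.zz_ne P.hK.1) hsK)
  have hvS : v ∈ centralizer ({s} : Set G) := DD_le_cent h hS hs (inf_le_DD P.hK P.v_mem)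
  have hwS : w ∈ centralizer ({s} : Set G) := DD_le_cent h hS hs (inf_le_DD P.hL P.w_mem)
  obtain ⟨n, hn⟩ := hS ⟨v, P.v_mem.2⟩
  obtain ⟨m, hm⟩ := hS ⟨w, P.w_mem.2⟩
  have hn' : v ^ 2 ^ n = 1 := congrArg Subtype.val hn
  have hm' : w ^ 2 ^ m = 1 := congrArg Subtype.val hm
  have hv : qm (centralizer {s}) ⟨v, hvS⟩ ∈ tr (centralizer {s}) K :=
    mem_tr ty hKc (x := ⟨v, hvS⟩) P.v_mem.1 (a := n) (Subtype.ext hn')
  have hw : qm (centralizer {s}) ⟨w, hwS⟩ ∈ tr (centralizer {s}) L :=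
    mem_tr ty hLc (x := ⟨w, hwS⟩) P.w_mem.1 (a := m) (Subtype.ext hm')
  have hzz := zz_tr h ty hKc
  have hvv : qm (centralizer {s}) ⟨v, hvS⟩ * qm (centralizer {s}) ⟨v, hvS⟩ = zz (tr (centralizer {s}) K) := by
    rw [hzz, ← map_mul]
    congr 1
    exact Subtype.ext P.vv
  have hww : qm (centralizer {s}) ⟨w, hwS⟩ * qm (centralizer {s}) ⟨w, hwS⟩ = zz (tr (centralizer {s}) K) := by
    rw [hzz, ← map_mul]
    congr 1
    exact Subtype.ext P.ww
  rw [hCe] at hCn ⊢
  have h1 := hkab.kb.resolve_left hCn _ hv _ hw hvv hww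
  refine centralizer_le h1 (CT.mem_centralizer_GB ?_)
  have hf := P.f_mem_A h hS
  have hfE := P.notMem h hS
  have e1 : v * w ≠ 1 := fun h2 => hfE (by rw [h2]; exact one_mem _)
  have e2 : v * w ≠ s := fun h2 => hfE (by rw [h2]; exact hs)
  have e3 : v * w * zz K ∉ ES Om S := by
    intro h2
    apply hfE
    have h3 := mul_mem h2 (inv_mem (zz_mem_ES P.hK))
    rwa [mul_inv_cancel_right] at h3
  rintro x (rfl | rfl | rfl)
  · rw [hzz]
    exact hu _ hzA (h.zz_ne P.hK.1) hsK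
  · rw [← map_mul]
    exact hu _ hf e1 e2
  · rw [hzz, ← map_mul, ← map_mul]
    exact hu _ (mul_mem hf hzA) (fun h2 => e3 (by rw [h2]; exact one_mem _)) (fun h2 => e3 (by rw [h2]; exact hs))

/-- (TOR) in the form of `TorFunctor.Tor` -/
theorem tor_of_CX {a b : G} (hCX : ∀ x ∈ XX a, x * b = b * x → P.A h hS ≤ CX b x) :
    ⁅XX a ⊓ centralizer {b}, P.A h hS⁆ ≤ XX b := by
  rw [Subgroup.commutator_le]
  intro x hx c hc
  have h1 := (mem_CX.1 (hCX x hx.1 (mem_centralizer_singleton_iff.1 hx.2) hc)).2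
  have h2 := inv_mem h1
  have h3 : (c * x * c⁻¹ * x⁻¹)⁻¹ = x * c * x⁻¹ * c⁻¹ := by group
  rwa [h3] at h2

/-- **THEOREM F applies to `A = ⟨E, v w⟩`** if there are two further members with different involutions -/
theorem tor_of_two (hE : GenChart.ExcTrip.{u}) (hfix : FixStmt.{u}) (hodd : OddStmt.{u}) (hct : CTStmt.{u})
    (ty : ∀ K ∈ Om, IsType K) (h4 : Nat.card (ES Om S) = 4)
    (hp : ∀ b ∈ P.A h hS, b ≠ 1 → HasPieces (fam Om (centralizer {b}))) {M₁ M₂ : Subgroup G}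
    (hM₁ : M₁ ∈ OmS Om S) (hM₂ : M₂ ∈ OmS Om S) (h1K : M₁ ≠ K) (h1L : M₁ ≠ L) (h2K : M₂ ≠ K) (h2L : M₂ ≠ L)
    (hne : zz M₁ ≠ zz M₂) : Tor (P.A h hS) where
  solv X hX := hodd X fun h2 => hX h2
  comm := P.A_comm h hS
  sq a ha := by rw [pow_two]; exact P.A_sq h hS a ha
  card := by rw [P.card_A_eq h hS h4]
  tor a ha _ b hb hb1 := P.tor_of_CX h hS fun x hx hxb =>
    P.tor_two h hS hct ty h4 hM₁ hM₂ h1K h1L h2K h2L hne ha hb (hp b hb hb1) hx hxb
  two B hB hB4 s hs hs1 := by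
    by_cases h1 : zz M₁ = s
    · exact P.two_of_witness h hS hE hfix hodd ty h4 hs hs1 (hp s hs hs1) hM₂ h2K h2L
        (fun h2 => hne (h1.trans h2.symm)) hB hB4
    · exact P.two_of_witness h hS hE hfix hodd ty h4 hs hs1 (hp s hs hs1) hM₁ h1K h1L h1 hB hB4

end Pair

end Cfsg.Agent.Cit.FC
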